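import Mathlib.LinearAlgebra.RootSystem.WeylGroup
import Mathlib.LinearAlgebra.RootSystem.Finite.Nondegenerate
import Groth.Prelude.Def_W4sga3xxiRoot
import Groth.Agent.RootD.K219.Basic
import Groth.Agent.Sga3A.Weyl

/-!
Automorphisms of a root datum over `ℤ` and the elements of the Weyl group: they are determined by
their action on the roots as soon as they move every weight by an element of the rational root span.
-/

set_option autoImplicit false

namespace K220.Aut

open RootPairing Set K219.Basic

variable {ι M N : Type*} [AddCommGroup M] [AddCommGroup N] {P : RootPairing ι ℤ M N}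

/-- An automorphism acts compatibly on the weights and on the index set. -/
theorem root_smul (g : P.Aut) (i : ι) : P.root (g • i) = g • P.root i :=
  Equiv.root_indexEquiv_eq_smul P i g

theorem toLin_smul (g : P.Aut) (m : M) (i : ι) :
    P.toLinearMap (g • m) (P.coroot (g • i)) = P.toLinearMap m (P.coroot i) :=
  Groth.Agent.Sga3A.Weyl.smul_toLin P g m i

theorem pairing_smul (g : P.Aut) (i j : ι) : P.pairing (g • i) (g • j) = P.pairing i j := by
  have := toLin_smul g (P.root i) j
  rwa [← root_smul] at this

theorem smul_mem_span (g : P.Aut) {x : M} (hx : x ∈ Submodule.span ℤ (Set.range P.root)) :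
    g • x ∈ Submodule.span ℤ (Set.range P.root) := by
  induction hx using Submodule.span_induction with
  | mem x h =>
    obtain ⟨i, rfl⟩ := h
    rw [← root_smul]
    exact Submodule.subset_span ⟨_, rfl⟩
  | zero => rw [smul_zero]; exact zero_mem _
  | add x y _ _ hx hy => rw [smul_add]; exact add_mem hx hy
  | smul a x _ hx => rw [smul_comm]; exact Submodule.smul_mem _ _ hx

/-- Elements of the Weyl group move weights by elements of the root lattice. -/
theorem weyl_smul_sub_mem {g : P.Aut} (hg : g ∈ P.weylGroup) (m : M) :
    g • m - m ∈ Submodule.span ℤ (Set.range P.root) := by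
  induction hg using weylGroup.induction generalizing m with
  | mem i =>
    rw [Equiv.reflection_smul, reflection_apply]
    rw [sub_sub_cancel_left]
    exact neg_mem (Submodule.smul_mem _ _ (Submodule.subset_span ⟨i, rfl⟩))
  | one => rw [one_smul, sub_self]; exact zero_mem _
  | mul x y hx hy ihx ihy =>
    rw [mul_smul]
    have := add_mem (ihx (y • m)) (ihy m)
    rwa [sub_add_sub_cancel] at this

/-- An automorphism fixing every root and moving every weight by an element of the rational root
span is the identity. -/
theorem eq_one_of_fix [Finite ι] (u : P.Aut)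
    (hs : ∀ m : M, ∃ n : ℕ, 0 < n ∧ n • (u • m - m) ∈ Submodule.span ℤ (Set.range P.root))
    (hfix : ∀ i : ι, u • i = i) : u = 1 := by
  apply Equiv.weightHom_injective P
  ext m
  change u • m = m
  rw [← sub_eq_zero]
  obtain ⟨n, hn, hm⟩ := hs m
  refine eq_zero_of_coroot'_of_nsmul hn hm fun i => ?_
  rw [map_sub, sub_eq_zero]
  have := toLin_smul u m i
  rw [hfix i] at this
  exact this

/-- Two automorphisms of semisimple type with the same action on the roots agree. -/
theorem eq_of_smul_idx_eq [Finite ι] {u v : P.Aut}
    (hu : ∀ m : M, ∃ n : ℕ, 0 < n ∧ n • (u • m - m) ∈ Submodule.span ℤ (Set.range P.root))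
    (hv : ∀ m : M, ∃ n : ℕ, 0 < n ∧ n • (v • m - m) ∈ Submodule.span ℤ (Set.range P.root))
    (h : ∀ i : ι, u • i = v • i) : u = v := by
  have key : v⁻¹ * u = 1 := by
    refine eq_one_of_fix _ (fun m => ?_) fun i => ?_
    · obtain ⟨a, ha, h1⟩ := hu m
      obtain ⟨b, hb, h2⟩ := hv m
      refine ⟨a * b, Nat.mul_pos ha hb, ?_⟩
      have e : (v⁻¹ * u) • m - m = v⁻¹ • ((u • m - m) - (v • m - m)) := by
        rw [sub_sub_sub_cancel_right, smul_sub, mul_smul, inv_smul_smul]
      rw [e, smul_comm]
      refine smul_mem_span _ ?_
      rw [smul_sub]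
      refine sub_mem ?_ ?_
      · rw [mul_comm, mul_smul]
        exact (Submodule.span ℤ (Set.range P.root)).toAddSubgroup.nsmul_mem h1 b
      · rw [mul_smul]
        exact (Submodule.span ℤ (Set.range P.root)).toAddSubgroup.nsmul_mem h2 a
    · rw [mul_smul, h i, inv_smul_smul]
  exact (inv_mul_eq_one.mp key).symm

/-- The Weyl group acts faithfully on the set of roots. -/
theorem weyl_ext [Finite ι] {u v : P.Aut} (hu : u ∈ P.weylGroup) (hv : v ∈ P.weylGroup)
    (h : ∀ i : ι, u • i = v • i) : u = v :=
  eq_of_smul_idx_eq (fun m => ⟨1, one_pos, by rw [one_smul]; exact weyl_smul_sub_mem hu m⟩)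
    (fun m => ⟨1, one_pos, by rw [one_smul]; exact weyl_smul_sub_mem hv m⟩) h

/-- The canonical form is invariant under all automorphisms. -/
theorem rootForm_smul [Fintype ι] (g : P.Aut) (x y : M) :
    P.RootForm (g • x) (g • y) = P.RootForm x y := by
  rw [rootForm_apply_apply, rootForm_apply_apply]
  refine (Fintype.sum_equiv (MulAction.toPerm g) _ _ fun i => ?_).symm
  have h1 := toLin_smul g x i
  have h2 := toLin_smul g y i
  simp only [MulAction.toPerm_apply, LinearMap.flip_apply]
  rw [h1, h2]

end K220.Aut
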