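import Mathlib.LinearAlgebra.RootSystem.WeylGroup
import Groth.Agent.RootD.K219.Pos
import Groth.Agent.RootD.K220.Aut
import Groth.Agent.RootD.K221.Prop

/-!
Simple reflections and positive roots, roots in the span of a part of a simple system.
-/

set_option autoImplicit false

namespace K220.Simple

open RootPairing Set K219.Basic K219.Pos K220.Aut RootD

variable {ι M N : Type*} [AddCommGroup M] [AddCommGroup N] {P : RootPairing ι ℤ M N}
  {Δ : Set ι} (hΔ : IsSimpleSys P Δ)

/-- A root all whose coordinates but one vanish is a multiple of a simple root. -/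
theorem root_eq_smul_of_cf [Finite ι] {k i : ι} (h : ∀ j, j ≠ i → cf hΔ k j = 0) :
    P.root k = cf hΔ k i • P.root i := by
  have : Fintype ι := Fintype.ofFinite ι
  have h1 := root_eq_sum hΔ k
  rw [Finset.sum_eq_single i (fun j _ hj => by rw [h j hj, zero_smul]) (by simp)] at h1
  exact h1

/-- A positive root that is not a multiple of the simple root `i` stays positive under `s_i`. -/
theorem refl_mem_posOf_of_cf [Finite ι] {k i j : ι} (hi : i ∈ Δ) (hj : j ≠ i)
    (h : 0 < cf hΔ k j) : P.reflectionPerm i k ∈ posOf P Δ := by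
  apply mem_posOf_of_pos hΔ (i := j)
  rw [cf_refl_of_ne hΔ hi hj]
  exact h

include hΔ in
theorem refl_mem_posOf [Finite ι] {k i : ι} (hk : k ∈ posOf P Δ) (hi : i ∈ Δ)
    (hli : LinearIndependent ℤ ![P.root k, P.root i]) :
    P.reflectionPerm i k ∈ posOf P Δ := by
  have hpos := (mem_posOf_iff hΔ).mp hk
  by_cases h : ∀ j, j ≠ i → cf hΔ k j = 0
  · exfalso
    have h1 := root_eq_smul_of_cf hΔ h
    rw [LinearIndependent.pair_iff] at hli
    have := (hli 1 (-cf hΔ k i) (by rw [one_smul, neg_smul, ← h1, add_neg_cancel])).1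
    exact one_ne_zero this
  · push Not at h
    obtain ⟨j, hj, hne⟩ := h
    exact refl_mem_posOf_of_cf hΔ hi hj (lt_of_le_of_ne (hpos j) (Ne.symm hne))

include hΔ in
/-- A positive root that is a multiple of a simple root is this root or twice this root. -/
theorem eq_or_two_smul [Finite ι] {k i : ι} (hk : k ∈ posOf P Δ) (hi : i ∈ Δ)
    (h : ∀ j, j ≠ i → cf hΔ k j = 0) : k = i ∨ P.root k = (2 : ℤ) • P.root i := by
  have h1 := root_eq_smul_of_cf hΔ h
  have hpos : 0 < cf hΔ k i := by
    have h2 := (mem_posOf_iff hΔ).mp hk i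
    refine lt_of_le_of_ne h2 fun h3 => ?_
    rw [← h3, zero_smul] at h1
    exact P.ne_zero k h1
  rcases K221.Prop.smul_cases_pos P (i := i) (j := k) (a := cf hΔ k i) (b := 1) hpos one_pos
    (by rw [one_smul]; exact h1) with e | e | e
  · exact Or.inl e.2
  · exact Or.inr e.2
  · omega

include hΔ in
/-- Descent: an indivisible positive non-simple root can be lowered by a simple reflection. -/
theorem exists_simple_pairing_pos [Finite ι] {k : ι} (hk : k ∈ posOf P Δ) (hkΔ : k ∉ Δ)
    (hind : IsIndiv P k) :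
    ∃ i ∈ Δ, 0 < P.pairing k i ∧ P.reflectionPerm i k ∈ posOf P Δ := by
  obtain ⟨i, hi, l, hl, hpos, h⟩ := exists_sub_simple (Δ := Δ) hk hkΔ
  refine ⟨i, hi, hpos, ?_⟩
  by_cases h : ∀ j, j ≠ i → cf hΔ k j = 0
  · exfalso
    rcases eq_or_two_smul hΔ hk hi h with e | e
    · exact hkΔ (e ▸ hi)
    · exact hind i e.symm
  · push Not at h
    obtain ⟨j, hj, hne⟩ := h
    exact refl_mem_posOf_of_cf hΔ hi hj
      (lt_of_le_of_ne ((mem_posOf_iff hΔ).mp hk j) (Ne.symm hne))

/-- The roots in the span of a part of a simple system. -/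
theorem mem_inSpan_iff [Finite ι] {Δ' : Set ι} (hsub : Δ' ⊆ Δ) {k : ι} :
    k ∈ inSpan P Δ' ↔ ∀ j, j ∉ Δ' → cf hΔ k j = 0 := by
  have : Fintype ι := Fintype.ofFinite ι
  constructor
  · intro hk j hj
    have key : ∀ x (hx : x ∈ Submodule.span ℤ (P.root '' Δ'))
        (hx' : x ∈ Submodule.span ℤ (Set.range P.root)), co hΔ j ⟨x, hx'⟩ = 0 := by
      intro x hx
      induction hx using Submodule.span_induction with
      | mem x h =>
        intro hx'
        obtain ⟨i, hi, rfl⟩ := h
        have := cf_ne hΔ (hsub hi) (i := j) (by rintro rfl; exact hj hi)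
        exact this
      | zero => intro hx'; exact map_zero _
      | add a b ha hb iha ihb =>
        intro hx'
        have ha' : a ∈ Submodule.span ℤ (Set.range P.root) :=
          Submodule.span_mono (Set.image_subset_range _ _) ha
        have hb' : b ∈ Submodule.span ℤ (Set.range P.root) :=
          Submodule.span_mono (Set.image_subset_range _ _) hb
        have : (⟨a + b, hx'⟩ : Submodule.span ℤ (Set.range P.root)) = ⟨a, ha'⟩ + ⟨b, hb'⟩ := rfl
        rw [this, map_add, iha ha', ihb hb', add_zero]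
      | smul c a ha iha =>
        intro hx'
        have ha' : a ∈ Submodule.span ℤ (Set.range P.root) :=
          Submodule.span_mono (Set.image_subset_range _ _) ha
        have : (⟨c • a, hx'⟩ : Submodule.span ℤ (Set.range P.root)) = c • ⟨a, ha'⟩ := rfl
        rw [this, map_smul, iha ha', smul_zero]
    exact key _ hk _
  · intro h
    change P.root k ∈ Submodule.span ℤ (P.root '' Δ')
    rw [root_eq_sum hΔ k]
    refine Submodule.sum_mem _ fun j _ => ?_
    by_cases hj : j ∈ Δ'
    · exact Submodule.smul_mem _ _ (Submodule.subset_span ⟨j, hj, rfl⟩)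
    · rw [h j hj, zero_smul]; exact zero_mem _

/-- Positive roots outside the span of a part of a simple system. -/
theorem mem_pos_diff_iff [Finite ι] {Δ' : Set ι} (hsub : Δ' ⊆ Δ) {k : ι} :
    (k ∈ posOf P Δ ∧ k ∉ inSpan P Δ') ↔ ∃ j, j ∉ Δ' ∧ 0 < cf hΔ k j := by
  constructor
  · rintro ⟨hk, hk'⟩
    rw [mem_inSpan_iff hΔ hsub] at hk'
    push Not at hk'
    obtain ⟨j, hj, hne⟩ := hk'
    exact ⟨j, hj, lt_of_le_of_ne ((mem_posOf_iff hΔ).mp hk j) (Ne.symm hne)⟩
  · rintro ⟨j, hj, hpos⟩
    refine ⟨mem_posOf_of_pos hΔ hpos, fun h => ?_⟩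
    have := (mem_inSpan_iff hΔ hsub).mp h j hj
    omega

/-- The coordinates outside `Δ'` are invariant under the group generated by the reflections in
`Δ'`. -/
theorem cf_smul_of_mem_closure [Finite ι] {Δ' : Set ι} (hsub : Δ' ⊆ Δ) {g : P.Aut}
    (hg : g ∈ Subgroup.closure ((fun i : ι => Equiv.reflection P i) '' Δ')) (k : ι) {j : ι}
    (hj : j ∉ Δ') : cf hΔ (g • k) j = cf hΔ k j := by
  induction hg using Subgroup.closure_induction generalizing k with
  | mem x hx =>
    obtain ⟨i, hi, rfl⟩ := hx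
    exact cf_refl_of_ne hΔ (hsub hi) (by rintro rfl; exact hj hi)
  | one => rw [one_smul]
  | mul x y _ _ ihx ihy => rw [mul_smul, ihx, ihy]
  | inv x _ ih =>
    have := ih (x⁻¹ • k)
    rw [smul_inv_smul] at this
    exact this.symm

include hΔ in
theorem weylSub_mapsTo [Finite ι] {Δ' : Set ι} (hsub : Δ' ⊆ Δ) {g : P.Aut}
    (hg : g ∈ Subgroup.closure ((fun i : ι => Equiv.reflection P i) '' Δ')) {k : ι}
    (hk : k ∈ posOf P Δ) (hk' : k ∉ inSpan P Δ') :
    g • k ∈ posOf P Δ ∧ g • k ∉ inSpan P Δ' := by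
  obtain ⟨j, hj, hpos⟩ := (mem_pos_diff_iff hΔ hsub).mp ⟨hk, hk'⟩
  exact (mem_pos_diff_iff hΔ hsub).mpr ⟨j, hj, by rwa [cf_smul_of_mem_closure hΔ hsub hg k hj]⟩

end K220.Simple
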