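import Mathlib.LinearAlgebra.RootSystem.WeylGroup
import Groth.Agent.RootD.K219.Pos
import Groth.Agent.RootD.K220.Aut
import Groth.Agent.RootD.K220.Simple
import Groth.Agent.RootD.K221.Prop

/-!
The exchange condition for words in the simple reflections of a system of simple roots
(non-reduced root data allowed); an element of the group generated by the simple reflections that
keeps the simple roots positive is the identity; counting positive roots made negative.
-/

set_option autoImplicit false

namespace K220.Weyl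

open RootPairing Set K219.Basic K219.Pos K220.Aut K220.Simple RootD

variable {ι M N : Type*} [AddCommGroup M] [AddCommGroup N] {P : RootPairing ι ℤ M N}
  {Δ : Set ι} (hΔ : IsSimpleSys P Δ)

/-- The product of a word in the reflections. -/
noncomputable def wp (P : RootPairing ι ℤ M N) (l : List ι) : P.Aut := (l.map fun a => Equiv.reflection P a).prod

@[simp] theorem wp_nil : wp P [] = 1 := rfl

@[simp] theorem wp_cons (i : ι) (l : List ι) : wp P (i :: l) = Equiv.reflection P i * wp P l := by
  simp only [wp, List.map_cons, List.prod_cons]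

@[simp] theorem wp_append (l m : List ι) : wp P (l ++ m) = wp P l * wp P m := by
  simp only [wp, List.map_append, List.prod_append]

theorem refl_mul_self (j : ι) : Equiv.reflection P j * Equiv.reflection P j = 1 := by
  rw [mul_eq_one_iff_eq_inv, Equiv.reflection_inv]

theorem mul_refl (g : P.Aut) (i : ι) :
    g * Equiv.reflection P i = Equiv.reflection P (g • i) * g :=
  Groth.Agent.Sga3A.Weyl.mul_reflection P g i

theorem refl_smul_idx (j i : ι) : Equiv.reflection P j • i = P.reflectionPerm j i := rfl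

theorem smul_ng (g : P.Aut) (i : ι) : g • ng P i = ng P (g • i) :=
  Groth.Agent.Sga3A.Weyl.smul_neg_idx P g i

theorem wp_reverse (l : List ι) : wp P l.reverse = (wp P l)⁻¹ := by
  induction l with
  | nil => simp
  | cons i l ih => rw [List.reverse_cons, wp_append, ih, wp_cons, wp_cons, wp_nil, mul_one,
      mul_inv_rev, Equiv.reflection_inv]

theorem wp_mem_closure {S : Set ι} {l : List ι} (hl : ∀ a ∈ l, a ∈ S) :
    wp P l ∈ Subgroup.closure ((fun i : ι => Equiv.reflection P i) '' S) := by
  induction l with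
  | nil => exact one_mem _
  | cons i l ih =>
    rw [wp_cons]
    exact mul_mem (Subgroup.subset_closure ⟨i, hl i (by simp), rfl⟩)
      (ih fun a ha => hl a (by simp [ha]))

theorem exists_word {S : Set ι} {g : P.Aut}
    (hg : g ∈ Subgroup.closure ((fun i : ι => Equiv.reflection P i) '' S)) :
    ∃ l : List ι, (∀ a ∈ l, a ∈ S) ∧ wp P l = g := by
  induction hg using Subgroup.closure_induction with
  | mem x hx =>
    obtain ⟨i, hi, rfl⟩ := hx
    exact ⟨[i], by simpa using hi, by simp⟩
  | one => exact ⟨[], by simp, rfl⟩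
  | mul x y _ _ hx hy =>
    obtain ⟨l, hl, rfl⟩ := hx
    obtain ⟨m, hm, rfl⟩ := hy
    refine ⟨l ++ m, fun a ha => ?_, wp_append l m⟩
    rcases List.mem_append.mp ha with h | h
    exacts [hl a h, hm a h]
  | inv x _ hx =>
    obtain ⟨l, hl, rfl⟩ := hx
    exact ⟨l.reverse, fun a ha => hl a (List.mem_reverse.mp ha), wp_reverse l⟩

/-- A word of minimal length for a given element. -/
def Red (P : RootPairing ι ℤ M N) (S : Set ι) (l : List ι) : Prop :=
  ∀ l' : List ι, (∀ a ∈ l', a ∈ S) → wp P l' = wp P l → l.length ≤ l'.length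

theorem exists_red_word {S : Set ι} {g : P.Aut}
    (hg : g ∈ Subgroup.closure ((fun i : ι => Equiv.reflection P i) '' S)) :
    ∃ l : List ι, (∀ a ∈ l, a ∈ S) ∧ wp P l = g ∧ Red P S l := by
  classical
  have h : ∃ n, ∃ l : List ι, l.length = n ∧ (∀ a ∈ l, a ∈ S) ∧ wp P l = g := by
    obtain ⟨l, hl, h⟩ := exists_word hg
    exact ⟨_, l, rfl, hl, h⟩
  obtain ⟨l, hlen, hl, hg'⟩ := Nat.find_spec h
  refine ⟨l, hl, hg', fun l' hl' h' => ?_⟩
  rw [hlen]
  exact Nat.find_min' h ⟨l', rfl, hl', h'.trans hg'⟩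

theorem isIndiv_smul {g : P.Aut} {i : ι} (hi : IsIndiv P i) : IsIndiv P (g • i) := by
  intro j hj
  apply hi (g⁻¹ • j)
  rw [root_smul, ← smul_comm, hj, ← root_smul, inv_smul_smul]

theorem smul_ng_mem [Finite ι] {k : ι} : k ∉ posOf P Δ → IsSimpleSys P Δ → ng P k ∈ posOf P Δ :=
  fun h hΔ => (neg_mem_iff (isPosSys_posOf hΔ)).mpr h

include hΔ in
/-- A positive root that becomes negative under a simple reflection is the simple root or twice the
simple root. -/
theorem eq_or_of_refl_notMem [Finite ι] {k c : ι} (hc : c ∈ Δ) (hk : k ∈ posOf P Δ)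
    (h : P.reflectionPerm c k ∉ posOf P Δ) : k = c ∨ P.root k = (2 : ℤ) • P.root c := by
  refine eq_or_two_smul hΔ hk hc fun j hj => ?_
  by_contra hne
  exact h (refl_mem_posOf_of_cf hΔ hc hj
    (lt_of_le_of_ne ((mem_posOf_iff hΔ).mp hk j) (Ne.symm hne)))

include hΔ in
/-- Exchange condition. -/
theorem exch_aux [Finite ι] {S : Set ι} (hS : S ⊆ Δ) {j : ι} (hj : j ∈ Δ) (l : List ι)
    (hl : ∀ a ∈ l, a ∈ S) (h : wp P l • j ∉ posOf P Δ) :
    ∃ i < l.length, wp P l * Equiv.reflection P j = wp P (l.eraseIdx i) := by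
  induction l with
  | nil =>
    exfalso
    apply h
    rw [wp_nil, one_smul]
    exact subset_posOf hj
  | cons c l ih =>
    have hl' : ∀ a ∈ l, a ∈ S := fun a ha => hl a (by simp [ha])
    by_cases hp : wp P l • j ∈ posOf P Δ
    · refine ⟨0, by simp, ?_⟩
      rw [wp_cons, mul_smul, refl_smul_idx] at h
      have hc : wp P l • j = c := by
        rcases eq_or_of_refl_notMem hΔ (hS (hl c (by simp))) hp h with e | e
        · exact e
        · exact absurd e.symm ((isIndiv_smul (g := wp P l) (isIndiv_simple hΔ hj)) c)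
      rw [wp_cons, mul_assoc, mul_refl, hc, ← mul_assoc, refl_mul_self, one_mul]
      rfl
    · obtain ⟨i, hi, hi'⟩ := ih hl' hp
      refine ⟨i + 1, by simpa using hi, ?_⟩
      rw [wp_cons, mul_assoc, hi']
      simp

theorem mem_of_mem_eraseIdx {l : List ι} {i : ℕ} {a : ι} (h : a ∈ l.eraseIdx i) : a ∈ l :=
  (List.eraseIdx_sublist l i).subset h

include hΔ in
/-- The last letter of a word of minimal length is made negative. -/
theorem last_notMem_of_red [Finite ι] {S : Set ι} (hS : S ⊆ Δ) {j : ι} {l : List ι}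
    (hl : ∀ a ∈ l ++ [j], a ∈ S) (hred : Red P S (l ++ [j])) :
    wp P (l ++ [j]) • j ∉ posOf P Δ := by
  intro hpos
  have hj : j ∈ S := hl j (by simp)
  have h1 : wp P l • j ∉ posOf P Δ := by
    intro h
    have h2 : wp P (l ++ [j]) • j = ng P (wp P l • j) := by
      rw [wp_append, wp_cons, wp_nil, mul_one, mul_smul, refl_smul_idx, ← smul_ng]
    rw [h2] at hpos
    exact (isPosSys_posOf hΔ).disjoint h hpos
  obtain ⟨i, hi, hi'⟩ := exch_aux hΔ hS (hS hj) l (fun a ha => hl a (by simp [ha])) h1
  have h2 := hred (l.eraseIdx i) (fun a ha => hl a (by simp [mem_of_mem_eraseIdx ha]))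
    (by rw [← hi']; simp)
  rw [List.length_eraseIdx_of_lt hi] at h2
  simp only [List.length_append, List.length_cons, List.length_nil] at h2
  omega

include hΔ in
/-- An element of the group generated by some simple reflections that keeps the corresponding
simple roots positive is the identity. -/
theorem eq_one_of_preserves [Finite ι] {S : Set ι} (hS : S ⊆ Δ) {g : P.Aut}
    (hg : g ∈ Subgroup.closure ((fun i : ι => Equiv.reflection P i) '' S))
    (h : ∀ j ∈ S, g • j ∈ posOf P Δ) : g = 1 := by
  obtain ⟨l, hl, rfl, hred⟩ := exists_red_word hg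
  rcases List.eq_nil_or_concat l with rfl | ⟨m, j, rfl⟩
  · rfl
  · exfalso
    rw [List.concat_eq_append] at hl hred h
    exact last_notMem_of_red hΔ hS hl hred (h j (hl j (by simp)))

/-! ### Counting the positive roots made negative -/

/-- The number of positive roots made negative. -/
noncomputable def cnt (P : RootPairing ι ℤ M N) (Δ : Set ι) (w : P.Aut) : ℕ :=
  Set.ncard {i | i ∈ posOf P Δ ∧ w • i ∉ posOf P Δ}

include hΔ in
/-- If `w⁻¹(δ)` is negative for a simple root `δ` then `s_δ w` makes fewer positive roots negative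
than `w`. -/
theorem cnt_refl_mul_lt [Finite ι] (w : P.Aut) {j : ι} (hj : j ∈ Δ)
    (h : w⁻¹ • j ∉ posOf P Δ) : cnt P Δ (Equiv.reflection P j * w) < cnt P Δ w := by
  have hpos := isPosSys_posOf hΔ
  apply Set.ncard_lt_ncard _ (Set.toFinite _)
  rw [Set.ssubset_iff_of_subset]
  · refine ⟨ng P (w⁻¹ • j), ⟨(neg_mem_iff hpos).mpr h, ?_⟩, ?_⟩
    · rw [smul_ng, smul_inv_smul]
      exact hpos.disjoint (subset_posOf hj)
    · rintro ⟨-, h2⟩
      apply h2
      rw [smul_ng, mul_smul, smul_inv_smul, refl_smul_idx, ng, neg_neg_idx]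
      exact subset_posOf hj
  · rintro i ⟨hi, hi'⟩
    refine ⟨hi, fun hw => ?_⟩
    rw [mul_smul, refl_smul_idx] at hi'
    rcases eq_or_of_refl_notMem hΔ hj hw hi' with e | e
    · apply h
      rw [← e, inv_smul_smul]
      exact hi
    · apply h
      -- `w⁻¹ j` is half of `i`
      have h1 : P.root i = (2 : ℤ) • P.root (w⁻¹ • j) := by
        have h2 : w⁻¹ • P.root (w • i) = w⁻¹ • ((2 : ℤ) • P.root j) := by rw [e]
        rw [← root_smul, inv_smul_smul, smul_comm, ← root_smul] at h2
        exact h2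
      rw [mem_posOf_iff hΔ] at hi ⊢
      intro l
      have := hi l
      rw [cf_smul hΔ h1] at this
      omega

include hΔ in
/-- For every automorphism `v` there is `w` in the group generated by the reflections in `S ⊆ Δ`
such that `(w v)⁻¹` makes the elements of `S` positive. -/
theorem exists_closure_inv_pos [Finite ι] {S : Set ι} (hS : S ⊆ Δ) (v : P.Aut) :
    ∃ w ∈ Subgroup.closure ((fun i : ι => Equiv.reflection P i) '' S),
      ∀ j ∈ S, (w * v)⁻¹ • j ∈ posOf P Δ := by
  classical
  have hex : ∃ n, ∃ w ∈ Subgroup.closure ((fun i : ι => Equiv.reflection P i) '' S),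
      cnt P Δ (w * v) = n := ⟨_, 1, one_mem _, rfl⟩
  obtain ⟨w, hw, hn⟩ := Nat.find_spec hex
  refine ⟨w, hw, fun j hj => ?_⟩
  by_contra h
  have hlt := cnt_refl_mul_lt hΔ (w * v) (hS hj) h
  refine absurd hlt (not_lt_of_ge ?_)
  rw [hn]
  exact Nat.find_min' hex ⟨Equiv.reflection P j * w,
    mul_mem (Subgroup.subset_closure ⟨j, hj, rfl⟩) hw, by rw [mul_assoc]⟩

theorem smul_mem_posOf_of_simple [Finite ι] {w : P.Aut} (h : ∀ j ∈ Δ, w • j ∈ posOf P Δ) {k : ι}
    (hk : k ∈ posOf P Δ) : w • k ∈ posOf P Δ := by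
  change P.root (w • k) ∈ natSpan P Δ
  rw [root_smul]
  obtain ⟨s, hs, hsum⟩ := mem_natSpan_iff.mp (show P.root k ∈ natSpan P Δ from hk)
  rw [← hsum]
  clear hsum
  induction s using Multiset.induction_on with
  | empty => rw [msum_zero, smul_zero]; exact zero_mem _
  | cons a s ih =>
    rw [msum_cons, smul_add, ← root_smul]
    exact add_mem (h a (hs a (by simp))) (ih fun i hi => hs i (by simp [hi]))

/-! ### Generation by the simple reflections -/

include hΔ in
/-- Every positive indivisible root is conjugate to a simple root under the group generated by the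
simple reflections. -/
theorem exists_conj_simple_of_pos [Finite ι] {k : ι} (hk : k ∈ posOf P Δ) (hind : IsIndiv P k) :
    ∃ g ∈ Subgroup.closure ((fun i : ι => Equiv.reflection P i) '' Δ), ∃ i ∈ Δ, g • i = k := by
  have : Fintype ι := Fintype.ofFinite ι
  induction hn : (∑ l, cf hΔ k l).toNat using Nat.strong_induction_on generalizing k with
  | _ n ih =>
    by_cases hkΔ : k ∈ Δ
    · exact ⟨1, one_mem _, k, hkΔ, one_smul _ _⟩
    obtain ⟨i, hi, hpos, hk'⟩ := exists_simple_pairing_pos hΔ hk hkΔ hind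
    have hind' : IsIndiv P (P.reflectionPerm i k) := by
      rw [← refl_smul_idx]
      exact isIndiv_smul hind
    have hsum : ∑ l, cf hΔ (P.reflectionPerm i k) l = ∑ l, cf hΔ k l - P.pairing k i := by
      classical
      simp only [cf_refl, Finset.sum_sub_distrib, ← Finset.mul_sum, cf_simple hΔ hi]
      simp
    have hnn : 0 ≤ ∑ l, cf hΔ (P.reflectionPerm i k) l :=
      Finset.sum_nonneg fun l _ => (mem_posOf_iff hΔ).mp hk' l
    obtain ⟨g, hg, j, hj, h⟩ := ih _ (by omega) hk' hind' rfl
    refine ⟨Equiv.reflection P i * g, mul_mem (Subgroup.subset_closure ⟨i, hi, rfl⟩) hg, j, hj, ?_⟩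
    rw [mul_smul, h, refl_smul_idx, reflectionPerm_self]

include hΔ in
theorem exists_conj_simple [Finite ι] {k : ι} (hind : IsIndiv P k) :
    ∃ g ∈ Subgroup.closure ((fun i : ι => Equiv.reflection P i) '' Δ), ∃ i ∈ Δ, g • i = k := by
  by_cases hk : k ∈ posOf P Δ
  · exact exists_conj_simple_of_pos hΔ hk hind
  · have hk' : ng P k ∈ posOf P Δ := smul_ng_mem hk hΔ
    have hind' : IsIndiv P (ng P k) := by
      rw [ng, ← refl_smul_idx]
      exact isIndiv_smul hind
    obtain ⟨g, hg, i, hi, h⟩ := exists_conj_simple_of_pos hΔ hk' hind'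
    refine ⟨g * Equiv.reflection P i, mul_mem hg (Subgroup.subset_closure ⟨i, hi, rfl⟩), i, hi, ?_⟩
    have h2 : Equiv.reflection P i • i = ng P i := rfl
    rw [mul_smul, h2, smul_ng, h, ng, neg_neg_idx]

theorem reflection_eq_of_two_smul [Finite ι] {i j : ι} (h : P.root i = (2 : ℤ) • P.root j) :
    Equiv.reflection P i = Equiv.reflection P j := by
  have hN : IsAddTorsionFree N := torsionFree_right P
  apply Equiv.weightHom_injective P
  ext x
  change Equiv.reflection P i • x = Equiv.reflection P j • x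
  rw [Equiv.reflection_smul, Equiv.reflection_smul, reflection_apply, reflection_apply]
  have h1 : (2 : ℤ) • P.coroot i = P.coroot j := P.smul_coroot_eq_of_root_eq_smul j i 2 h
  have h2 : P.coroot' j x = 2 * P.coroot' i x := by
    change P.toLinearMap x (P.coroot j) = 2 * P.toLinearMap x (P.coroot i)
    rw [← h1, map_smul, smul_eq_mul]
  rw [h, h2, smul_smul, mul_comm]

include hΔ in
/-- The Weyl group is generated by the simple reflections. -/
theorem closure_simple [Finite ι] :
    Subgroup.closure ((fun i : ι => Equiv.reflection P i) '' Δ) = P.weylGroup := by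
  apply le_antisymm
  · rw [Subgroup.closure_le]
    rintro _ ⟨i, -, rfl⟩
    exact P.reflection_mem_weylGroup i
  · rw [weylGroup, Subgroup.closure_le]
    rintro _ ⟨i, rfl⟩
    have key : ∀ j, IsIndiv P j → Equiv.reflection P j ∈
        Subgroup.closure ((fun i : ι => Equiv.reflection P i) '' Δ) := by
      intro j hj
      obtain ⟨g, hg, l, hl, rfl⟩ := exists_conj_simple hΔ hj
      rw [← Groth.Agent.Sga3A.Weyl.conj_reflection]
      exact mul_mem (mul_mem hg (Subgroup.subset_closure ⟨l, hl, rfl⟩)) (inv_mem hg)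
    rcases K221.Prop.indiv_or_two_smul P i with h | ⟨j, hj, h⟩
    · exact key i h
    · rw [reflection_eq_of_two_smul h]
      exact key j hj

include hΔ in
/-- An element of the Weyl group that keeps the simple roots positive is the identity. -/
theorem weyl_eq_one [Finite ι] {g : P.Aut} (hg : g ∈ P.weylGroup)
    (h : ∀ j ∈ Δ, g • j ∈ posOf P Δ) : g = 1 :=
  eq_one_of_preserves hΔ le_rfl (by rwa [closure_simple hΔ]) h

/-- An automorphism mapping positive roots to positive roots permutes them. -/
theorem smul_mem_posOf_iff [Finite ι] (hΔ : IsSimpleSys P Δ) {g : P.Aut}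
    (h : ∀ j ∈ Δ, g • j ∈ posOf P Δ) {k : ι} : g • k ∈ posOf P Δ ↔ k ∈ posOf P Δ := by
  refine ⟨fun hk => ?_, smul_mem_posOf_of_simple h⟩
  by_contra hn
  have h1 := smul_mem_posOf_of_simple h (smul_ng_mem hn hΔ)
  rw [smul_ng] at h1
  exact (isPosSys_posOf hΔ).disjoint hk h1

/-- An automorphism mapping the simple roots to positive roots permutes the simple roots. -/
theorem smul_mem_iff [Finite ι] (hΔ : IsSimpleSys P Δ) {g : P.Aut}
    (h : ∀ j ∈ Δ, g • j ∈ posOf P Δ) {k : ι} : g • k ∈ Δ ↔ k ∈ Δ := by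
  have hp : ∀ {k : ι}, g • k ∈ posOf P Δ ↔ k ∈ posOf P Δ := smul_mem_posOf_iff hΔ h
  have hmem : ∀ k, k ∈ Δ ↔ k ∈ indec P (posOf P Δ) := fun k => by rw [indec_posOf hΔ]
  rw [hmem (g • k), hmem k]
  unfold indec
  rw [mem_ofPred_eq, mem_ofPred_eq, hp]
  refine and_congr_right fun _ => not_congr ?_
  constructor
  · rintro ⟨a, b, ha, hb, e⟩
    refine ⟨g⁻¹ • a, g⁻¹ • b, ?_, ?_, ?_⟩
    · rw [← hp, smul_inv_smul]; exact ha
    · rw [← hp, smul_inv_smul]; exact hb
    · rw [root_smul, root_smul, ← smul_add, ← e, root_smul, inv_smul_smul]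
  · rintro ⟨a, b, ha, hb, e⟩
    refine ⟨g • a, g • b, hp.mpr ha, hp.mpr hb, ?_⟩
    rw [root_smul, root_smul, root_smul, e, smul_add]

theorem image_eq [Finite ι] (hΔ : IsSimpleSys P Δ) {g : P.Aut}
    (h : ∀ j ∈ Δ, g • j ∈ posOf P Δ) : (fun i : ι => g • i) '' Δ = Δ := by
  ext k
  constructor
  · rintro ⟨i, hi, rfl⟩
    exact (smul_mem_iff hΔ h).mpr hi
  · intro hk
    refine ⟨g⁻¹ • k, ?_, smul_inv_smul _ _⟩
    rw [← smul_mem_iff hΔ h, smul_inv_smul]
    exact hk

end K220.Weyl
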