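import Mathlib.LinearAlgebra.RootSystem.WeylGroup
import Groth.Agent.RootD.K220.Weyl

/-!
Parabolic subgroups: coordinates of elements of the span of a part of a simple system, action of the
group generated by some simple reflections on weights, dominance.
-/

set_option autoImplicit false

namespace K220.Par

open RootPairing Set K219.Basic K219.Pos K220.Aut K220.Simple K220.Weyl RootD

variable {ι M N : Type*} [AddCommGroup M] [AddCommGroup N] {P : RootPairing ι ℤ M N}
  {Δ : Set ι} (hΔ : IsSimpleSys P Δ)

theorem co_eq_zero_of_mem_span {Δ' : Set ι} (hsub : Δ' ⊆ Δ) {j : ι} (hj : j ∉ Δ') {x : M}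
    (hx : x ∈ Submodule.span ℤ (P.root '' Δ')) (hx' : x ∈ Submodule.span ℤ (Set.range P.root)) :
    co hΔ j ⟨x, hx'⟩ = 0 := by
  revert hx'
  induction hx using Submodule.span_induction with
  | mem x h =>
    intro hx'
    obtain ⟨i, hi, rfl⟩ := h
    have := cf_ne hΔ (hsub hi) (i := j) (by rintro rfl; exact hj hi)
    exact this
  | zero => intro hx'; exact map_zero _
  | add a b ha hb iha ihb =>
    intro hx'
    have ha' : a ∈ Submodule.span ℤ (Set.range P.root) :=
      Submodule.span_mono (Set.image_subset_range _ _) ha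
    have hb' : b ∈ Submodule.span ℤ (Set.range P.root) :=
      Submodule.span_mono (Set.image_subset_range _ _) hb
    have : (⟨a + b, hx'⟩ : Submodule.span ℤ (Set.range P.root)) = ⟨a, ha'⟩ + ⟨b, hb'⟩ := rfl
    rw [this, map_add, iha ha', ihb hb', add_zero]
  | smul c a ha iha =>
    intro hx'
    have ha' : a ∈ Submodule.span ℤ (Set.range P.root) :=
      Submodule.span_mono (Set.image_subset_range _ _) ha
    have : (⟨c • a, hx'⟩ : Submodule.span ℤ (Set.range P.root)) = c • ⟨a, ha'⟩ := rfl
    rw [this, map_smul, iha ha', smul_zero]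

theorem smul_sub_mem_span {Δ' : Set ι} {g : P.Aut}
    (hg : g ∈ Subgroup.closure ((fun i : ι => Equiv.reflection P i) '' Δ')) (m : M) :
    g • m - m ∈ Submodule.span ℤ (P.root '' Δ') := by
  induction hg using Subgroup.closure_induction generalizing m with
  | mem x hx =>
    obtain ⟨i, hi, rfl⟩ := hx
    change Equiv.reflection P i • m - m ∈ _
    rw [Equiv.reflection_smul, reflection_apply, sub_sub_cancel_left]
    exact neg_mem (Submodule.smul_mem _ _ (Submodule.subset_span ⟨i, hi, rfl⟩))
  | one => rw [one_smul, sub_self]; exact zero_mem _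
  | mul x y _ _ ihx ihy =>
    rw [mul_smul]
    have := add_mem (ihx (y • m)) (ihy m)
    rwa [sub_add_sub_cancel] at this
  | inv x _ ih =>
    have := neg_mem (ih (x⁻¹ • m))
    rwa [smul_inv_smul, neg_sub] at this

include hΔ in
/-- An element of the Weyl group lies in the parabolic subgroup attached to `Δ' ⊆ Δ` as soon as it
leaves the coordinates of the roots outside `Δ'` invariant. -/
theorem mem_closure_of_cf [Finite ι] {Δ' : Set ι} (hsub : Δ' ⊆ Δ) {g : P.Aut}
    (hg : g ∈ P.weylGroup) (hcf : ∀ k j, j ∉ Δ' → cf hΔ (g • k) j = cf hΔ k j) :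
    g ∈ Subgroup.closure ((fun i : ι => Equiv.reflection P i) '' Δ') := by
  obtain ⟨w, hw, hpos⟩ := exists_closure_inv_pos hΔ hsub g
  have hwW : w ∈ P.weylGroup := by
    rw [← closure_simple hΔ]
    exact Subgroup.closure_mono (Set.image_mono hsub) hw
  have h1 : (w * g)⁻¹ = 1 := by
    refine weyl_eq_one hΔ (inv_mem (mul_mem hwW hg)) fun j hj => ?_
    by_cases hj' : j ∈ Δ'
    · exact hpos j hj'
    · apply mem_posOf_of_pos hΔ (i := j)
      have h2 : ∀ k, cf hΔ ((w * g) • k) j = cf hΔ k j := by
        intro k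
        rw [mul_smul, cf_smul_of_mem_closure hΔ hsub hw _ hj', hcf k j hj']
      rw [← h2, smul_inv_smul, cf_self hΔ hj]
      exact one_pos
  rw [inv_eq_one, mul_eq_one_iff_inv_eq] at h1
  rw [← h1]
  exact inv_mem hw

end K220.Par
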