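import Mathlib.LinearAlgebra.RootSystem.WeylGroup
import Groth.Agent.RootD.K220.Par

/-!
Dominance: `m - w(m)` is a non-negative combination of simple roots when `m` is dominant with
respect to the simple reflections used in `w`; the stabiliser of such an `m`.
-/

set_option autoImplicit false

namespace K220.Dom

open RootPairing Set K219.Basic K219.Pos K220.Aut K220.Simple K220.Weyl K220.Par RootD

variable {ι M N : Type*} [AddCommGroup M] [AddCommGroup N] {P : RootPairing ι ℤ M N}
  {Δ : Set ι} (hΔ : IsSimpleSys P Δ)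

theorem Red.init {S : Set ι} {l : List ι} {j : ι} (hj : j ∈ S) (h : Red P S (l ++ [j])) :
    Red P S l := by
  intro l' hl' h'
  have := h (l' ++ [j]) (by
    intro a ha
    rcases List.mem_append.mp ha with ha | ha
    · exact hl' a ha
    · rw [List.mem_singleton.mp ha]; exact hj) (by rw [wp_append, wp_append, h'])
  simpa using this

include hΔ in
/-- The monoid generated by the simple roots is pointed. -/
theorem natSpan_pointed [Finite ι] {x y : M} (hx : x ∈ natSpan P Δ) (hy : y ∈ natSpan P Δ)
    (h : x + y = 0) : x = 0 ∧ y = 0 := by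
  have : Fintype ι := Fintype.ofFinite ι
  have hx' : x ∈ Submodule.span ℤ (Set.range P.root) := by
    rw [← span_eq hΔ]; exact mem_span_of_mem_natSpan hx
  have hy' : y ∈ Submodule.span ℤ (Set.range P.root) := by
    rw [← span_eq hΔ]; exact mem_span_of_mem_natSpan hy
  have h1 := (mem_natSpan_iff_co hΔ hx').mp hx
  have h2 := (mem_natSpan_iff_co hΔ hy').mp hy
  have h3 : ∀ i, co hΔ i ⟨x, hx'⟩ = 0 := by
    intro i
    have e : (⟨x, hx'⟩ : Submodule.span ℤ (Set.range P.root)) + ⟨y, hy'⟩ = 0 := Subtype.ext h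
    have h4 := congrArg (co hΔ i) e
    rw [map_add, map_zero] at h4
    have := h1 i; have := h2 i
    omega
  have hx0 : x = 0 := by
    have := co_sum hΔ ⟨x, hx'⟩
    simpa [h3] using this
  exact ⟨hx0, by rw [hx0, zero_add] at h; exact h⟩

include hΔ in
/-- Dominance along words of minimal length. -/
theorem sub_mem_natSpan_of_red [Finite ι] {S : Set ι} (hS : S ⊆ Δ) {m : M}
    (hm : ∀ a ∈ S, 0 ≤ P.coroot' a m) (l : List ι) (hl : ∀ a ∈ l, a ∈ S) (hred : Red P S l) :
    m - wp P l • m ∈ natSpan P Δ ∧ (wp P l • m = m → wp P l ∈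
      Subgroup.closure ((fun i : ι => Equiv.reflection P i) '' {a | a ∈ S ∧ P.coroot' a m = 0})) := by
  induction l using List.reverseRecOn with
  | nil =>
    rw [wp_nil, one_smul, sub_self]
    exact ⟨zero_mem _, fun _ => one_mem _⟩
  | append_singleton l j ih =>
    have hj : j ∈ S := hl j (by simp)
    have hl' : ∀ a ∈ l, a ∈ S := fun a ha => hl a (by simp [ha])
    obtain ⟨ih1, ih2⟩ := ih hl' (Red.init hj hred)
    have hpos : wp P l • j ∈ posOf P Δ := by
      by_contra hn
      apply last_notMem_of_red hΔ hS hl hred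
      rw [wp_append, wp_cons, wp_nil, mul_one, mul_smul, refl_smul_idx]
      change wp P l • ng P j ∈ posOf P Δ
      rw [smul_ng]
      exact smul_ng_mem hn hΔ
    have e : m - wp P (l ++ [j]) • m =
        (m - wp P l • m) + P.coroot' j m • P.root (wp P l • j) := by
      rw [wp_append, wp_cons, wp_nil, mul_one, mul_smul, Equiv.reflection_smul, reflection_apply,
        smul_sub, root_smul, smul_comm]
      abel
    have hmem : P.coroot' j m • P.root (wp P l • j) ∈ natSpan P Δ := by
      obtain ⟨n, hn⟩ := Int.eq_ofNat_of_zero_le (hm j hj)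
      rw [hn]
      simp only [natCast_zsmul]
      exact nsmul_mem (show P.root (wp P l • j) ∈ natSpan P Δ from hpos) n
    refine ⟨by rw [e]; exact add_mem ih1 hmem, fun hfix => ?_⟩
    rw [hfix, sub_self] at e
    obtain ⟨h1, h2⟩ := natSpan_pointed hΔ ih1 hmem e.symm
    have hM : IsAddTorsionFree M := torsionFree_left P
    have h3 : P.coroot' j m = 0 := by
      rcases smul_eq_zero.mp h2 with h | h
      · exact h
      · exact absurd h (P.ne_zero _)
    rw [wp_append, wp_cons, wp_nil, mul_one]
    exact mul_mem (ih2 (sub_eq_zero.mp h1).symm) (Subgroup.subset_closure ⟨j, ⟨hj, h3⟩, rfl⟩)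

include hΔ in
theorem sub_mem_natSpan [Finite ι] {S : Set ι} (hS : S ⊆ Δ) {m : M}
    (hm : ∀ a ∈ S, 0 ≤ P.coroot' a m) {g : P.Aut}
    (hg : g ∈ Subgroup.closure ((fun i : ι => Equiv.reflection P i) '' S)) :
    m - g • m ∈ natSpan P Δ := by
  obtain ⟨l, hl, rfl, hred⟩ := exists_red_word hg
  exact (sub_mem_natSpan_of_red hΔ hS hm l hl hred).1

include hΔ in
/-- The stabiliser of a dominant weight is generated by the simple reflections it contains. -/
theorem mem_closure_of_smul_eq [Finite ι] {S : Set ι} (hS : S ⊆ Δ) {m : M}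
    (hm : ∀ a ∈ S, 0 ≤ P.coroot' a m) {g : P.Aut}
    (hg : g ∈ Subgroup.closure ((fun i : ι => Equiv.reflection P i) '' S)) (hfix : g • m = m) :
    g ∈ Subgroup.closure ((fun i : ι => Equiv.reflection P i) '' {a | a ∈ S ∧ P.coroot' a m = 0}) := by
  obtain ⟨l, hl, rfl, hred⟩ := exists_red_word hg
  exact (sub_mem_natSpan_of_red hΔ hS hm l hl hred).2 hfix

end K220.Dom
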