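import Mathlib.LinearAlgebra.RootSystem.WeylGroup
import Mathlib.LinearAlgebra.RootSystem.Finite.Nondegenerate
import Mathlib.LinearAlgebra.RootSystem.Finite.Lemmas
import Mathlib.LinearAlgebra.FreeModule.Finite.Basic
import Mathlib.LinearAlgebra.Dimension.RankNullity
import Groth.Prelude.Def_W4sga3xxiRoot
import Groth.Agent.RootD.K219.Basic
import Groth.Agent.RootD.K220.Aut

/-!
Extension of additive functions on the roots to the root lattice; ranks of the radical and of the
coradical.
-/

set_option autoImplicit false

namespace K220.Extend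

open RootPairing Set K219.Basic K220.Aut

variable {ι M N : Type*} [AddCommGroup M] [AddCommGroup N] {P : RootPairing ι ℤ M N}

/-- A relation between roots with non-negative coefficients is respected by every odd function that
is additive on the pairs of roots whose sum is a root. -/
theorem sum_eq_zero_of_msum [Finite ι] {G : Type*} [AddCommGroup G] (f : ι → G)
    (hneg : ∀ i : ι, f (P.reflectionPerm i i) = -f i)
    (hadd : ∀ i j k : ι, P.root k = P.root i + P.root j → f k = f i + f j)
    (s : Multiset ι) (hs : msum P s = 0) : (s.map f).sum = 0 := by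
  classical
  induction hn : Multiset.card s using Nat.strong_induction_on generalizing s with
  | _ n ih =>
    by_cases h0 : s = 0
    · subst h0; simp
    obtain ⟨i, hi⟩ := Multiset.exists_mem_of_ne_zero h0
    obtain ⟨t, rfl⟩ := Multiset.exists_cons_of_mem hi
    rw [msum_cons] at hs
    have ht : msum P t = - P.root i := by rw [← add_eq_zero_iff_neg_eq.mp hs]
    obtain ⟨j, hj, hlt⟩ := exists_pairing_neg_of_msum (P := P) (s := t) (k := i) (by
      rw [ht, map_neg]; simp)
    obtain ⟨r, rfl⟩ := Multiset.exists_cons_of_mem hj
    rw [msum_cons] at ht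
    by_cases hij : j = P.reflectionPerm i i
    · subst hij
      have hr : msum P r = 0 := by
        rw [root_neg] at ht
        exact add_eq_left.mp ht
      have := ih (Multiset.card r) (by rw [← hn]; simp) r hr rfl
      simp [this, hneg]
    · obtain ⟨l, hl⟩ := add_mem_range hlt hij
      have hr : msum P (l ::ₘ r) = 0 := by
        rw [msum_cons, hl]
        rw [← add_eq_zero_iff_neg_eq.mp hs] at *
        have : msum P r = - P.root i - P.root j := by rw [← ht]; abel
        rw [this]; abel
      have := ih (Multiset.card (l ::ₘ r)) (by rw [← hn]; simp) (l ::ₘ r) hr rfl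
      rw [Multiset.map_cons, Multiset.sum_cons, hadd j i l hl] at this
      rw [Multiset.map_cons, Multiset.sum_cons, Multiset.map_cons, Multiset.sum_cons, ← this]
      abel

/-- The multiset of roots attached to an integral combination of roots. -/
theorem exists_multiset [Finite ι] {G : Type*} [AddCommGroup G] (f : ι → G)
    (hneg : ∀ i : ι, f (P.reflectionPerm i i) = -f i) (c : ι →₀ ℤ) :
    ∃ s : Multiset ι, msum P s = Finsupp.linearCombination ℤ P.root c ∧
      (s.map f).sum = Finsupp.linearCombination ℤ f c := by
  induction c using Finsupp.induction_linear with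
  | zero => exact ⟨0, by simp, by simp⟩
  | add c d hc hd =>
    obtain ⟨s, h1, h2⟩ := hc
    obtain ⟨t, h3, h4⟩ := hd
    exact ⟨s + t, by rw [msum_add, h1, h3, map_add], by
      rw [Multiset.map_add, Multiset.sum_add, h2, h4, map_add]⟩
  | single i a =>
    rcases Int.natAbs_eq a with h | h
    · refine ⟨Multiset.replicate a.natAbs i, ?_, ?_⟩
      · rw [msum_replicate, Finsupp.linearCombination_single, ← natCast_zsmul, ← h]
      · rw [Multiset.map_replicate, Multiset.sum_replicate, Finsupp.linearCombination_single,
          ← natCast_zsmul, ← h]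
    · refine ⟨Multiset.replicate a.natAbs (P.reflectionPerm i i), ?_, ?_⟩
      · rw [msum_replicate, Finsupp.linearCombination_single, root_neg, ← natCast_zsmul]
        conv_rhs => rw [h]
        rw [neg_smul, smul_neg]
      · rw [Multiset.map_replicate, Multiset.sum_replicate, Finsupp.linearCombination_single,
          hneg, ← natCast_zsmul]
        conv_rhs => rw [h]
        rw [neg_smul, smul_neg]

/-- An odd function on the roots, additive on the pairs of roots whose sum is a root, extends
uniquely to the root lattice. -/
theorem existsUnique_addHom [Finite ι] {G : Type*} [AddCommGroup G] (f : ι → G)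
    (hneg : ∀ i : ι, f (P.reflectionPerm i i) = -f i)
    (hadd : ∀ i j k : ι, P.root k = P.root i + P.root j → f k = f i + f j) :
    ∃! φ : Submodule.span ℤ (Set.range P.root) →+ G,
      ∀ i : ι, φ ⟨P.root i, Submodule.subset_span (Set.mem_range_self i)⟩ = f i := by
  let r : ι → Submodule.span ℤ (Set.range P.root) :=
    fun i => ⟨P.root i, Submodule.subset_span (Set.mem_range_self i)⟩
  let L : (ι →₀ ℤ) →ₗ[ℤ] Submodule.span ℤ (Set.range P.root) := Finsupp.linearCombination ℤ r
  have hL : ∀ c, (L c : M) = Finsupp.linearCombination ℤ P.root c := by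
    intro c
    have h := Finsupp.apply_linearCombination ℤ
      (Submodule.span ℤ (Set.range P.root)).subtype r c
    exact h
  have hsurj : Function.Surjective L := by
    rintro ⟨x, hx⟩
    obtain ⟨c, hc⟩ := (Finsupp.mem_span_range_iff_exists_finsupp).mp hx
    refine ⟨c, Subtype.ext ?_⟩
    rw [hL]
    exact hc
  have hker : LinearMap.ker L ≤ LinearMap.ker (Finsupp.linearCombination ℤ f) := by
    intro c hc
    rw [LinearMap.mem_ker] at hc ⊢
    obtain ⟨s, h1, h2⟩ := exists_multiset (P := P) f hneg c
    rw [← h2]
    refine sum_eq_zero_of_msum f hneg hadd s ?_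
    rw [h1, ← hL, hc]
    rfl
  let e := L.quotKerEquivOfSurjective hsurj
  let φ : Submodule.span ℤ (Set.range P.root) →ₗ[ℤ] G :=
    ((LinearMap.ker L).liftQ (Finsupp.linearCombination ℤ f) hker) ∘ₗ (e.symm : _ →ₗ[ℤ] _)
  have hφ : ∀ i, φ (r i) = f i := by
    intro i
    have : r i = L (Finsupp.single i 1) := by simp [L]
    have h2 : e.symm (r i) = Submodule.Quotient.mk (Finsupp.single i 1) := by
      rw [LinearEquiv.symm_apply_eq, this]
      rfl
    change ((LinearMap.ker L).liftQ (Finsupp.linearCombination ℤ f) hker) (e.symm (r i)) = f i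
    rw [h2]
    change Finsupp.linearCombination ℤ f (Finsupp.single i 1) = f i
    simp
  refine ⟨φ.toAddMonoidHom, fun i => hφ i, ?_⟩
  intro ψ hψ
  have key : ψ.toIntLinearMap = φ := by
    apply LinearMap.ext_on_range (v := r)
    · rw [eq_top_iff]
      rintro x -
      obtain ⟨c, rfl⟩ := hsurj x
      exact Finsupp.mem_span_range_iff_exists_finsupp.mpr ⟨c, rfl⟩
    · intro i
      rw [hφ i]
      exact hψ i
  ext x
  exact LinearMap.congr_fun key x

end K220.Extend
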