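import Mathlib.LinearAlgebra.RootSystem.WeylGroup
import Mathlib.LinearAlgebra.RootSystem.Finite.Nondegenerate
import Mathlib.LinearAlgebra.RootSystem.Finite.Lemmas
import Groth.Prelude.Def_W4sga3xxiRoot
import Groth.Agent.RootD.K219.Basic
import Groth.Agent.RootD.K220.Aut

/-!
Commuting reflections, roots of equal length, orbits of the Weyl group in an irreducible datum.
-/

set_option autoImplicit false

namespace K220.Length

open RootPairing Set K219.Basic K220.Aut

variable {ι M N : Type*} [AddCommGroup M] [AddCommGroup N] {P : RootPairing ι ℤ M N}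

/-- Two distinct commuting reflections belong to orthogonal roots. -/
theorem isOrthogonal_of_commute [Finite ι] (i j : ι)
    (hne : P.reflection i ≠ P.reflection j) (hc : Commute (P.reflection i) (P.reflection j)) :
    P.IsOrthogonal i j := by
  have hM : IsAddTorsionFree M := torsionFree_left P
  by_contra hort
  have hji : P.pairing j i ≠ 0 := fun h => hort ⟨pairing_zero_comm.mp h, h⟩
  have hij : P.pairing i j ≠ 0 := fun h => hji (pairing_zero_comm.mp h)
  -- the commutation relation, evaluated
  have key : ∀ x : M, (P.coroot' j x * P.pairing j i) • P.root i =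
      (P.coroot' i x * P.pairing i j) • P.root j := by
    intro x
    have h := LinearEquiv.congr_fun hc.eq x
    simp only [LinearEquiv.mul_apply, reflection_apply, map_sub, map_smul,
      root_coroot'_eq_pairing] at h
    linear_combination (norm := module) h
  have h1 : (2 : ℤ) • P.root i = P.pairing i j • P.root j := by
    have := key (P.root j)
    simp only [root_coroot'_eq_pairing, pairing_same] at this
    have h2 : P.pairing j i • ((2 : ℤ) • P.root i) = P.pairing j i • (P.pairing i j • P.root j) := by
      linear_combination (norm := module) this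
    exact smul_right_injective M hji h2
  have h2 : P.pairing j i • P.root i = (2 : ℤ) • P.root j := by
    have := key (P.root i)
    simp only [root_coroot'_eq_pairing, pairing_same] at this
    have h2 : P.pairing i j • (P.pairing j i • P.root i) = P.pairing i j • ((2 : ℤ) • P.root j) := by
      linear_combination (norm := module) this
    exact smul_right_injective M hij h2
  refine hne (LinearEquiv.ext fun x => ?_)
  -- `⟨x, j⟩ (j,i) i = ⟨x,i⟩ (i,j) j = 2 ⟨x, i⟩ i`
  have h3 : (P.coroot' j x * P.pairing j i) • P.root i = (P.coroot' i x * 2) • P.root i := by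
    rw [key x, mul_smul, ← h1, mul_smul]
  have h4 : P.coroot' j x * P.pairing j i = P.coroot' i x * 2 :=
    smul_left_injective ℤ (P.ne_zero i) h3
  have h5 : (2 : ℤ) • (P.coroot' j x • P.root j) = (2 : ℤ) • (P.coroot' i x • P.root i) := by
    have e : (2 : ℤ) • (P.coroot' j x • P.root j) = P.coroot' j x • ((2 : ℤ) • P.root j) := by module
    rw [e, ← h2, smul_smul, h4, mul_comm, mul_smul]
  have h6 : P.coroot' j x • P.root j = P.coroot' i x • P.root i :=
    smul_right_injective M (two_ne_zero : (2 : ℤ) ≠ 0) h5
  rw [reflection_apply, reflection_apply, h6]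

/-- `2 (x, α) = ⟨x, α^v⟩ ℓ(α)`. -/
theorem two_mul_rootForm [Fintype ι] (x : M) (i : ι) :
    2 * P.RootForm x (P.root i) = P.coroot' i x * P.RootForm (P.root i) (P.root i) := by
  have h := P.rootForm_self_smul_coroot i
  have h1 := congrArg (P.toLinearMap x) h
  rw [map_smul, map_nsmul, P.toLinearMap_apply_apply_Polarization] at h1
  have hs : P.RootForm (P.root i) x = P.RootForm x (P.root i) := (P.rootForm_symmetric.eq _ _).symm
  rw [hs] at h1
  simp only [smul_eq_mul, nsmul_eq_mul] at h1
  push_cast at h1
  rw [← h1, mul_comm]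
  rfl

theorem rootForm_pos [Fintype ι] (i : ι) : 0 < P.RootForm (P.root i) (P.root i) :=
  P.rootForm_pos_of_ne_zero (x := P.root i) (Submodule.subset_span ⟨i, rfl⟩) (P.ne_zero i)

/-- `⟨α, β^v⟩ ℓ(β) = ⟨β, α^v⟩ ℓ(α)`. -/
theorem pairing_mul_length [Fintype ι] (i j : ι) :
    P.pairing i j * P.RootForm (P.root j) (P.root j) =
      P.pairing j i * P.RootForm (P.root i) (P.root i) := by
  have h1 := two_mul_rootForm (P := P) (P.root i) j
  have h2 := two_mul_rootForm (P := P) (P.root j) i
  have hs : P.RootForm (P.root i) (P.root j) = P.RootForm (P.root j) (P.root i) :=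
    (P.rootForm_symmetric.eq _ _).symm
  rw [hs] at h1
  simp only [root_coroot'_eq_pairing] at h1 h2
  linarith

/-- Non-orthogonal roots of the same length are conjugate under the Weyl group. -/
theorem exists_weyl_of_length_eq [Finite ι] [Fintype ι] (i j : ι) (hno : ¬ P.IsOrthogonal i j)
    (hl : P.RootForm (P.root i) (P.root i) = P.RootForm (P.root j) (P.root j)) :
    ∃ g : P.Aut, g ∈ P.weylGroup ∧ g • i = j := by
  have hM : IsAddTorsionFree M := torsionFree_left P
  have hN : IsAddTorsionFree N := torsionFree_right P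
  have hji : P.pairing j i ≠ 0 := fun h => hno ⟨pairing_zero_comm.mp h, h⟩
  have hc : P.pairing i j = P.pairing j i := by
    have h := pairing_mul_length (P := P) i j
    rw [hl] at h
    exact mul_right_cancel₀ (rootForm_pos (P := P) j).ne' h
  have hmem := P.pairingIn_pairingIn_mem_set_of_isCrystallographic i j
  rw [pairingIn_eq, pairingIn_eq, hc] at hmem
  simp only [mem_insert_iff, Prod.mk.injEq, mem_singleton_iff] at hmem
  have h4 : P.pairing j i = 1 ∨ P.pairing j i = -1 ∨ P.pairing j i = 2 ∨ P.pairing j i = -2 := by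
    omega
  rcases h4 with h | h | h | h
  · -- `s_j s_i s_j`
    refine ⟨Equiv.reflection P j * (Equiv.reflection P i * Equiv.reflection P j),
      mul_mem (P.reflection_mem_weylGroup j)
        (mul_mem (P.reflection_mem_weylGroup i) (P.reflection_mem_weylGroup j)), ?_⟩
    apply P.root.injective
    rw [root_smul, mul_smul, mul_smul, Equiv.reflection_smul, Equiv.reflection_smul,
      Equiv.reflection_smul]
    simp only [reflection_apply, map_sub, map_smul, root_coroot'_eq_pairing, pairing_same, hc, h]
    module
  · refine ⟨Equiv.reflection P i * Equiv.reflection P j,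
      mul_mem (P.reflection_mem_weylGroup i) (P.reflection_mem_weylGroup j), ?_⟩
    apply P.root.injective
    rw [root_smul, mul_smul, Equiv.reflection_smul, Equiv.reflection_smul]
    simp only [reflection_apply, map_sub, map_smul, root_coroot'_eq_pairing, pairing_same, hc, h]
    module
  · refine ⟨1, one_mem _, ?_⟩
    rw [one_smul]
    exact (P.pairing_two_two_iff i j).mp ⟨hc.trans h, h⟩
  · refine ⟨Equiv.reflection P i, P.reflection_mem_weylGroup i, ?_⟩
    have := (P.pairing_neg_two_neg_two_iff i j).mp ⟨hc.trans h, h⟩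
    apply P.root.injective
    rw [root_smul, Equiv.reflection_smul, reflection_apply_self, this, neg_neg]

/-! ### Irreducible data: orbits of the Weyl group -/

theorem pairing_smul_left (g : P.Aut) (i j : ι) : P.pairing (g • i) j = P.pairing i (g⁻¹ • j) := by
  have := pairing_smul (P := P) g i (g⁻¹ • j)
  rwa [smul_inv_smul] at this

/-- The index set is irreducible: no proper non-empty closed symmetric set of roots has a closed
symmetric complement. -/
def Irr (P : RootPairing ι ℤ M N) : Prop :=
  ∀ R' : Set ι, RootD.IsClosedSub P R' → RootD.IsSymmSub P R' → RootD.IsClosedSub P R'ᶜ →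
      RootD.IsSymmSub P R'ᶜ → R' = ∅ ∨ R' = Set.univ

/-- In an irreducible root datum every Weyl group orbit meets the non-orthogonal roots of any given
root. -/
theorem exists_weyl_pairing_ne_zero [Finite ι] (hirr : Irr P) (i j : ι) :
    ∃ g : P.Aut, g ∈ P.weylGroup ∧ P.pairing (g • i) j ≠ 0 := by
  classical
  -- the roots orthogonal to the orbit of `i`
  let T : Set ι := {k | ∀ g ∈ P.weylGroup, P.pairing (g • i) k = 0}
  -- the span of the orbit
  let V : Submodule ℤ M := Submodule.span ℤ (P.root '' {k | ∃ g ∈ P.weylGroup, g • i = k})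
  have hT_neg : RootD.IsSymmSub P T := by
    intro k hk g hg
    rw [pairing_reflectionPerm_self_right, hk g hg, neg_zero]
  have hTc : ∀ k ∉ T, ∃ n : ℕ, 0 < n ∧ n • P.root k ∈ V := by
    intro k hk
    simp only [T, mem_ofPred_eq, not_forall] at hk
    obtain ⟨g, hg, hne⟩ := hk
    have h1 : P.root (g • i) ∈ V := Submodule.subset_span ⟨_, ⟨g, hg, rfl⟩, rfl⟩
    have h2 : P.root ((Equiv.reflection P k * g) • i) ∈ V :=
      Submodule.subset_span ⟨_, ⟨_, mul_mem (P.reflection_mem_weylGroup k) hg, rfl⟩, rfl⟩
    rw [mul_smul, root_smul, Equiv.reflection_smul, reflection_apply] at h2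
    have h3 : P.pairing (g • i) k • P.root k ∈ V := by
      have := V.sub_mem h1 h2
      rwa [sub_sub_cancel, root_coroot'_eq_pairing] at this
    refine ⟨(P.pairing (g • i) k).natAbs, Int.natAbs_pos.mpr hne, ?_⟩
    rcases Int.natAbs_eq (P.pairing (g • i) k) with h | h
    · rw [h] at h3
      rwa [natCast_zsmul] at h3
    · rw [h, neg_smul] at h3
      have := V.neg_mem h3
      rwa [neg_neg, natCast_zsmul] at this
  have hTV : ∀ k ∈ T, ∀ x ∈ V, P.coroot' k x = 0 := by
    intro k hk x hx
    induction hx using Submodule.span_induction with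
    | mem x h =>
      obtain ⟨_, ⟨g, hg, rfl⟩, rfl⟩ := h
      exact hk g hg
    | zero => rw [map_zero]
    | add x y _ _ hx hy => rw [map_add, hx, hy, add_zero]
    | smul a x _ hx => rw [map_smul, hx, smul_zero]
  have hTc' : ∀ k ∉ T, ∀ l ∈ T, P.pairing k l = 0 := by
    intro k hk l hl
    obtain ⟨n, hn, h⟩ := hTc k hk
    have := hTV l hl _ h
    rw [map_nsmul, root_coroot'_eq_pairing, nsmul_eq_mul] at this
    rcases mul_eq_zero.mp this with h | h
    · exact absurd (by exact_mod_cast h) hn.ne'
    · exact h
  have hcase := hirr T ?_ hT_neg ?_ ?_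
  · rcases hcase with h | h
    · have hj : j ∉ T := by rw [h]; exact Set.notMem_empty j
      simp only [T, mem_ofPred_eq, not_forall] at hj
      obtain ⟨g, hg, hne⟩ := hj
      exact ⟨g, hg, hne⟩
    · have hi : i ∈ T := by rw [h]; exact Set.mem_univ i
      have := hi 1 (one_mem _)
      rw [one_smul, pairing_same] at this
      exact absurd this two_ne_zero
  · intro a b c ha hb hc g hg
    rw [pairing_zero_comm, pairing_eq_add_of_root_eq_add hc, pairing_zero_comm.mp (ha g hg),
      pairing_zero_comm.mp (hb g hg), add_zero]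
  · intro a b c ha hb hc hcT
    have h1 := hTc' a ha c (by simpa using hcT)
    have h2 := hTc' b hb c (by simpa using hcT)
    have h3 := pairing_eq_add_of_root_eq_add (P := P) (l := c) hc
    rw [pairing_same, h1, h2] at h3
    exact absurd h3 two_ne_zero
  · intro a ha hna
    apply ha
    have := hT_neg hna
    rwa [neg_neg_idx] at this

/-- In an irreducible root datum the Weyl group acts transitively on the roots of given length. -/
theorem weyl_transitive_length [Finite ι] [Fintype ι] (hirr : Irr P) (i j : ι)
    (hl : P.RootForm (P.root i) (P.root i) = P.RootForm (P.root j) (P.root j)) :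
    ∃ g : P.Aut, g ∈ P.weylGroup ∧ g • i = j := by
  obtain ⟨g, hg, hne⟩ := exists_weyl_pairing_ne_zero hirr i j
  obtain ⟨w, hw, h⟩ := exists_weyl_of_length_eq (P := P) (g • i) j (fun h => hne h.1)
    (by rw [root_smul, rootForm_smul, hl])
  exact ⟨w * g, mul_mem hw hg, by rw [mul_smul, h]⟩

/-- The possible length ratios of non-orthogonal roots in a reduced datum. -/
theorem length_ratio [Finite ι] [Fintype ι] [P.IsReduced] (i j : ι) (hne : P.pairing i j ≠ 0) :
    P.RootForm (P.root i) (P.root i) = P.RootForm (P.root j) (P.root j) ∨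
    P.RootForm (P.root i) (P.root i) = 2 * P.RootForm (P.root j) (P.root j) ∨
    P.RootForm (P.root i) (P.root i) = 3 * P.RootForm (P.root j) (P.root j) ∨
    2 * P.RootForm (P.root i) (P.root i) = P.RootForm (P.root j) (P.root j) ∨
    3 * P.RootForm (P.root i) (P.root i) = P.RootForm (P.root j) (P.root j) := by
  have hM : IsAddTorsionFree M := torsionFree_left P
  have hN : IsAddTorsionFree N := torsionFree_right P
  have h := pairing_mul_length (P := P) i j
  have hmem := P.pairingIn_pairingIn_mem_set_of_isCrystal_of_isRed i j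
  rw [pairingIn_eq, pairingIn_eq] at hmem
  simp only [mem_insert_iff, Prod.mk.injEq, mem_singleton_iff] at hmem
  rcases hmem with ⟨h1, h2⟩ | ⟨h1, h2⟩ | ⟨h1, h2⟩ | ⟨h1, h2⟩ | ⟨h1, h2⟩ | ⟨h1, h2⟩ | ⟨h1, h2⟩ |
    ⟨h1, h2⟩ | ⟨h1, h2⟩ | ⟨h1, h2⟩ | ⟨h1, h2⟩ | ⟨h1, h2⟩ | ⟨h1, h2⟩ <;> rw [h1, h2] at h <;> omega

theorem length_ratios [Finite ι] [Fintype ι] [P.IsReduced] (hirr : Irr P) (i₀ : ι)
    (hmin : ∀ i : ι, P.RootForm (P.root i₀) (P.root i₀) ≤ P.RootForm (P.root i) (P.root i)) :
    (∀ i : ι, P.RootForm (P.root i) (P.root i) = P.RootForm (P.root i₀) (P.root i₀) ∨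
        P.RootForm (P.root i) (P.root i) = 2 * P.RootForm (P.root i₀) (P.root i₀) ∨
        P.RootForm (P.root i) (P.root i) = 3 * P.RootForm (P.root i₀) (P.root i₀)) ∧
      ¬ ((∃ i : ι, P.RootForm (P.root i) (P.root i) = 2 * P.RootForm (P.root i₀) (P.root i₀)) ∧
          ∃ j : ι, P.RootForm (P.root j) (P.root j) = 3 * P.RootForm (P.root i₀) (P.root i₀)) := by
  have hpos := rootForm_pos (P := P) i₀
  constructor
  · intro i
    obtain ⟨g, hg, hne⟩ := exists_weyl_pairing_ne_zero hirr i i₀
    have h := length_ratio (g • i) i₀ hne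
    rw [root_smul, rootForm_smul] at h
    have := hmin i
    omega
  · rintro ⟨⟨i, hi⟩, ⟨j, hj⟩⟩
    obtain ⟨g, hg, hne⟩ := exists_weyl_pairing_ne_zero hirr i j
    have h := length_ratio (g • i) j hne
    rw [root_smul, rootForm_smul] at h
    omega

end K220.Length
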