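import Mathlib.LinearAlgebra.RootSystem.WeylGroup
import Mathlib.Algebra.Order.Group.PiLex
import Mathlib.Algebra.Order.Monoid.Prod
import Groth.Agent.RootD.K219.Pos
import Groth.Agent.RootD.K220.Simple
import Groth.Agent.RootD.K221.Prop

/-!
Positive systems from lexicographic orders; systems of simple roots containing a given indivisible
root and adapted to a second root.
-/

set_option autoImplicit false

namespace K220.LexOrd

open RootPairing Set K219.Basic K219.Pos K220.Aut K220.Simple RootD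

variable {ι M N : Type*} [AddCommGroup M] [AddCommGroup N] {P : RootPairing ι ℤ M N}

/-- The positivity condition of the lexicographic order given by three additive maps. -/
def LexPos {G : Type*} [AddCommGroup G] [LinearOrder G] (f1 : M →+ G) (f2 f3 : M →+ ℤ) (x : M) :
    Prop :=
  0 < f1 x ∨ (f1 x = 0 ∧ (0 < f2 x ∨ (f2 x = 0 ∧ 0 < f3 x)))

section

variable {G : Type*} [AddCommGroup G] [LinearOrder G] [IsOrderedAddMonoid G]
  {f1 : M →+ G} {f2 f3 : M →+ ℤ}

theorem LexPos.add {x y : M} (hx : LexPos f1 f2 f3 x) (hy : LexPos f1 f2 f3 y) :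
    LexPos f1 f2 f3 (x + y) := by
  unfold LexPos at *
  simp only [map_add]
  rcases hx with hx | ⟨hx, hx'⟩ <;> rcases hy with hy | ⟨hy, hy'⟩
  · exact Or.inl (add_pos hx hy)
  · exact Or.inl (by rw [hy, add_zero]; exact hx)
  · exact Or.inl (by rw [hx, zero_add]; exact hy)
  · refine Or.inr ⟨by rw [hx, hy, add_zero], ?_⟩
    omega

theorem LexPos.not_neg {x : M} (hx : LexPos f1 f2 f3 x) : ¬ LexPos f1 f2 f3 (-x) := by
  unfold LexPos at *
  simp only [map_neg, neg_eq_zero, Left.neg_pos_iff]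
  rcases hx with hx | ⟨hx, hx'⟩
  · rintro (h | ⟨h, -⟩)
    · exact lt_asymm hx h
    · exact hx.ne' h
  · rintro (h | ⟨h, h'⟩)
    · exact h.ne hx
    · omega

omit [IsOrderedAddMonoid G] in
theorem LexPos.nonneg {x : M} (hx : LexPos f1 f2 f3 x) : 0 ≤ f1 x := by
  rcases hx with hx | ⟨hx, -⟩
  · exact hx.le
  · exact hx.ge

theorem isPosSys_lex [Finite ι]
    (h : ∀ i, f1 (P.root i) = 0 → f2 (P.root i) = 0 → f3 (P.root i) ≠ 0) :
    IsPosSys P {i | LexPos f1 f2 f3 (P.root i)} := by
  refine isPosSys_of_closed ?_ ?_ ?_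
  · intro i hi hi'
    rw [mem_ofPred_eq, root_neg] at hi'
    exact LexPos.not_neg hi hi'
  · intro i
    simp only [mem_ofPred_eq, root_neg, LexPos, map_neg, neg_eq_zero, Left.neg_pos_iff]
    rcases lt_trichotomy (f1 (P.root i)) 0 with h1 | h1 | h1
    · exact Or.inr (Or.inl h1)
    · have := h i h1
      rcases lt_trichotomy (f2 (P.root i)) 0 with h2 | h2 | h2
      · exact Or.inr (Or.inr ⟨h1, Or.inl h2⟩)
      · have := this h2
        rcases lt_or_gt_of_ne this with h3 | h3
        · exact Or.inr (Or.inr ⟨h1, Or.inr ⟨h2, h3⟩⟩)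
        · exact Or.inl (Or.inr ⟨h1, Or.inr ⟨h2, h3⟩⟩)
      · exact Or.inl (Or.inr ⟨h1, Or.inl h2⟩)
    · exact Or.inl (Or.inl h1)
  · intro i j k hi hj hk
    rw [mem_ofPred_eq, hk]
    exact LexPos.add hi hj

end

variable (P) in
/-- There is an additive map to a linearly ordered group, injective on the root lattice. -/
theorem exists_hom [Finite ι] : ∃ (n : ℕ) (φ : M →+ Lex (Fin n → ℤ)),
    ∀ x ∈ Submodule.span ℤ (Set.range P.root), φ x = 0 → x = 0 := by
  let e := Finite.equivFin ι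
  refine ⟨Nat.card ι,
    { toFun := fun x => toLex (fun k => P.coroot' (e.symm k) x)
      map_zero' := by simp; rfl
      map_add' := fun x y => by simp only [map_add]; rfl }, ?_⟩
  intro x hx h
  refine eq_zero_of_coroot' hx fun i => ?_
  have h1 := congrArg ofLex h
  have h2 := congrFun h1 (e i)
  change P.coroot' (e.symm (e i)) x = 0 at h2
  rwa [Equiv.symm_apply_apply] at h2

/-- Given an indivisible root `α` and a root `γ` not proportional to it there is a system of simple
roots containing `α` and such that `γ` is a non-negative combination of `α` and another element of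
this system. -/
theorem exists_simpleSys_pair [Finite ι] {i k : ι} (hα : IsIndiv P i)
    (hli : LinearIndependent ℤ ![P.root i, P.root k]) :
    ∃ Δ : Set ι, IsSimpleSys P Δ ∧ i ∈ Δ ∧
      ∃ j ∈ Δ, j ≠ i ∧ ∃ a b : ℕ, P.root k = a • P.root i + b • P.root j := by
  classical
  have : Fintype ι := Fintype.ofFinite ι
  have hM : IsAddTorsionFree M := torsionFree_left P
  let Q := Submodule.span ℤ (Set.range P.root)
  have hQ : ∀ j, P.root j ∈ Q := fun j => Submodule.subset_span ⟨j, rfl⟩
  let B := P.RootForm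
  have hsymm : ∀ x y, B x y = B y x := fun x y => (P.rootForm_symmetric.eq x y)
  set α := P.root i with hαdef
  set γ := P.root k with hγdef
  rw [LinearIndependent.pair_iff] at hli
  let a : ℤ := B α α
  have ha : 0 < a := P.rootForm_pos_of_ne_zero (hQ i) (P.ne_zero i)
  let γ' : M := a • γ - B α γ • α
  have hγ'Q : γ' ∈ Q := Q.sub_mem (Q.smul_mem _ (hQ k)) (Q.smul_mem _ (hQ i))
  have hγ'0 : γ' ≠ 0 := by
    intro h
    have := (hli (-B α γ) a (by rw [← h]; simp only [γ']; module)).2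
    exact ha.ne' this
  let c : ℤ := B γ' γ'
  have hc : 0 < c := P.rootForm_pos_of_ne_zero hγ'Q hγ'0
  have hγ'α : B γ' α = 0 := by
    simp only [γ', map_sub, map_smul, LinearMap.sub_apply, LinearMap.smul_apply, smul_eq_mul]
    rw [hsymm γ α]
    change a * _ - _ * a = 0
    ring
  let π1 : M →ₗ[ℤ] M := a • LinearMap.id - (B α).smulRight α
  let π2 : M →ₗ[ℤ] M := c • π1 - ((B γ').comp π1).smulRight γ'
  have hπ1 : ∀ x, π1 x = a • x - B α x • α := fun x => rfl
  have hπ2 : ∀ x, π2 x = c • π1 x - B γ' (π1 x) • γ' := fun x => rfl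
  have hγ'π1 : ∀ x, B γ' (π1 x) = a * B γ' x := by
    intro x
    rw [hπ1, map_sub, map_smul, map_smul, hγ'α]
    simp
  have hπ2' : ∀ x, π2 x = (c * a) • x - (c * B α x) • α - (a * B γ' x) • γ' := by
    intro x
    rw [hπ2, hγ'π1, hπ1]
    module
  have hπ2Q : ∀ x ∈ Q, π2 x ∈ Q := by
    intro x hx
    rw [hπ2']
    exact Q.sub_mem (Q.sub_mem (Q.smul_mem _ hx) (Q.smul_mem _ (hQ i))) (Q.smul_mem _ hγ'Q)
  obtain ⟨n, φ, hφ⟩ := exists_hom P
  let f1 : M →+ Lex (Fin n → ℤ) := φ.comp π2.toAddMonoidHom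
  let f2 : M →+ ℤ := (B γ').toAddMonoidHom
  let f3 : M →+ ℤ := (B α).toAddMonoidHom
  have hf2 : ∀ x, f2 x = B γ' x := fun x => rfl
  have hf3 : ∀ x, f3 x = B α x := fun x => rfl
  have hf1 : ∀ x ∈ Q, f1 x = 0 → (c * a) • x = (c * B α x) • α + (a * B γ' x) • γ' := by
    intro x hx h
    have h1 : π2 x = 0 := hφ _ (hπ2Q x hx) h
    rw [hπ2'] at h1
    rw [sub_sub, sub_eq_zero] at h1
    exact h1
  have hf12 : ∀ x ∈ Q, f1 x = 0 → f2 x = 0 → a • x = B α x • α := by
    intro x hx h h'
    have h1 := hf1 x hx h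
    rw [← hf2, h', mul_zero, zero_smul, add_zero, mul_smul, mul_smul] at h1
    exact smul_right_injective M hc.ne' h1
  have hnz : ∀ j, f1 (P.root j) = 0 → f2 (P.root j) = 0 → f3 (P.root j) ≠ 0 := by
    intro j h1 h2 h3
    have h4 := hf12 _ (hQ j) h1 h2
    rw [← hf3, h3, zero_smul] at h4
    rcases smul_eq_zero.mp h4 with h5 | h5
    · exact ha.ne' h5
    · exact P.ne_zero j h5
  let S : Set ι := {j | LexPos f1 f2 f3 (P.root j)}
  have hS : IsPosSys P S := isPosSys_lex hnz
  have hf1α : f1 α = 0 := by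
    change φ (π2 α) = 0
    have : π2 α = 0 := by
      rw [hπ2', hγ'α]
      change (c * a) • α - (c * a) • α - (a * 0) • γ' = 0
      simp
    rw [this, map_zero]
  have hf2α : f2 α = 0 := hγ'α
  have hf3α : f3 α = a := rfl
  have hiS : i ∈ S := Or.inr ⟨hf1α, Or.inr ⟨hf2α, ha⟩⟩
  have hγ'γ : a * B γ' γ = c := by
    have : a • γ = γ' + B α γ • α := by simp only [γ']; module
    have h2 := congrArg (B γ') this
    rw [map_smul, map_add, map_smul, hγ'α] at h2
    simpa using h2
  have hf1γ : f1 γ = 0 := by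
    change φ (π2 γ) = 0
    have : π2 γ = 0 := by
      rw [hπ2', hγ'γ]
      have h3 : a • γ = γ' + B α γ • α := by simp only [γ']; module
      rw [mul_smul, h3]
      module
    rw [this, map_zero]
  have hkS : k ∈ S := by
    refine Or.inr ⟨hf1γ, Or.inl ?_⟩
    change 0 < B γ' γ
    by_contra! h
    have : a * B γ' γ ≤ 0 := mul_nonpos_of_nonneg_of_nonpos ha.le h
    omega
  -- elements of `S` with `f1 = f2 = 0` are positive multiples of `α`
  have hray : ∀ j ∈ S, f1 (P.root j) = 0 → f2 (P.root j) = 0 →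
      0 < f3 (P.root j) ∧ a • P.root j = f3 (P.root j) • α := by
    intro j hj h1 h2
    refine ⟨?_, hf12 _ (hQ j) h1 h2⟩
    rcases hj with h | ⟨-, h | ⟨-, h⟩⟩
    · exact absurd h1 h.ne'
    · exact absurd h2 h.ne'
    · exact h
  have hind : i ∈ indec P S := by
    refine ⟨hiS, ?_⟩
    rintro ⟨j, l, hj, hl, h⟩
    have hj1 := LexPos.nonneg hj
    have hl1 := LexPos.nonneg hl
    have hsum1 : f1 (P.root j) + f1 (P.root l) = 0 := by rw [← map_add, ← h]; exact hf1α
    have hj1' : f1 (P.root j) = 0 := by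
      refine le_antisymm ?_ hj1
      rw [← hsum1]
      exact le_add_of_nonneg_right hl1
    have hl1' : f1 (P.root l) = 0 := by rwa [hj1', zero_add] at hsum1
    have hsum2 : f2 (P.root j) + f2 (P.root l) = 0 := by rw [← map_add, ← h]; exact hf2α
    have hj2 : 0 ≤ f2 (P.root j) := by
      rcases hj with h | ⟨-, h | ⟨h, -⟩⟩
      · exact absurd hj1' h.ne'
      · exact h.le
      · exact h.ge
    have hl2 : 0 ≤ f2 (P.root l) := by
      rcases hl with h | ⟨-, h | ⟨h, -⟩⟩
      · exact absurd hl1' h.ne'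
      · exact h.le
      · exact h.ge
    obtain ⟨hj3, hj4⟩ := hray j hj hj1' (by omega)
    obtain ⟨hl3, hl4⟩ := hray l hl hl1' (by omega)
    rcases K221.Prop.smul_cases_pos P (i := i) (j := j) hj3 ha hj4 with e | e | e
    · rw [e.2] at h
      exact P.ne_zero l (left_eq_add.mp h)
    · rw [e.2] at h
      have : P.root l = - P.root i := by linear_combination (norm := module) (-1 : ℤ) • h
      rw [this, map_neg] at hl3
      change 0 < - f3 α at hl3
      rw [hf3α] at hl3
      omega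
    · exact hα j e.2.symm
  have hΔ := isSimpleSys_indec hS
  refine ⟨indec P S, hΔ, hind, ?_⟩
  have hposk : ∀ l, 0 ≤ cf hΔ k l := by
    rw [← mem_posOf_iff hΔ, posOf_indec hS]
    exact hkS
  have hsumk := root_eq_sum hΔ k
  -- simple roots occurring in `γ` lie in the plane
  have hplane : ∀ l, cf hΔ k l ≠ 0 → f1 (P.root l) = 0 := by
    have h1 : ∑ l, cf hΔ k l • f1 (P.root l) = 0 := by
      rw [← hf1γ, hγdef]
      conv_rhs => rw [hsumk]
      rw [map_sum]
      exact Finset.sum_congr rfl fun l _ => (map_zsmul f1 _ _).symm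
    have h2 : ∀ l ∈ Finset.univ, 0 ≤ cf hΔ k l • f1 (P.root l) := by
      intro l _
      by_cases hl : l ∈ indec P S
      · exact zsmul_nonneg (LexPos.nonneg hl.1) (hposk l)
      · rw [cf_of_notMem hΔ hl, zero_smul]
    intro l hl
    have h3 := (Finset.sum_eq_zero_iff_of_nonneg h2).mp h1 l (Finset.mem_univ l)
    have hl' : l ∈ indec P S := by
      by_contra h
      exact hl (cf_of_notMem hΔ h k)
    by_contra hne
    have h4 : 0 < f1 (P.root l) := lt_of_le_of_ne (LexPos.nonneg hl'.1) (Ne.symm hne)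
    have h5 : 0 < cf hΔ k l := lt_of_le_of_ne (hposk l) (Ne.symm hl)
    exact (zsmul_pos h4 h5).ne' h3
  have hex : ∃ j, j ≠ i ∧ cf hΔ k j ≠ 0 := by
    by_contra! h
    have h1 := root_eq_smul_of_cf hΔ h
    have := (hli (cf hΔ k i) (-1) (by
      rw [← hγdef] at h1
      rw [h1]; module)).2
    omega
  obtain ⟨j, hji, hj⟩ := hex
  have hcoprop : ∀ l, l ≠ i → cf hΔ k l ≠ 0 → ∀ m, m ≠ i →
      (c * a) * (if m = l then 1 else 0) = (a * B γ' (P.root l)) * co hΔ m ⟨γ', hγ'Q⟩ := by
    intro l hl hlk m hm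
    have hlΔ : l ∈ indec P S := by
      by_contra h
      exact hlk (cf_of_notMem hΔ h k)
    have h1 := hf1 _ (hQ l) (hplane l hlk)
    have h2 : (c * a) • (⟨P.root l, hQ l⟩ : Q) =
        (c * B α (P.root l)) • (⟨α, hQ i⟩ : Q) + (a * B γ' (P.root l)) • (⟨γ', hγ'Q⟩ : Q) :=
      Subtype.ext (by simpa using h1)
    have h3 := congrArg (co hΔ m) h2
    rw [map_add, map_smul, map_smul, map_smul] at h3
    have h4 : co hΔ m ⟨P.root l, hQ l⟩ = if m = l then 1 else 0 := cf_simple hΔ hlΔ m
    have h5 : co hΔ m ⟨α, hQ i⟩ = 0 := cf_ne hΔ hind hm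
    rw [h4, h5] at h3
    simpa using h3
  have hca : 0 < c * a := mul_pos hc ha
  have huniq : ∀ l, l ≠ i → l ≠ j → cf hΔ k l = 0 := by
    intro l hl hlj
    by_contra hlk
    have h1 := hcoprop j hji hj j hji
    have h2 := hcoprop j hji hj l hl
    have h3 := hcoprop l hl hlk l hl
    rw [if_pos rfl, mul_one] at h1 h3
    rw [if_neg hlj, mul_zero] at h2
    rcases mul_eq_zero.mp h2.symm with h4 | h4
    · rw [h4, zero_mul] at h1
      exact hca.ne' h1
    · rw [h4, mul_zero] at h3
      exact hca.ne' h3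
  have hjΔ : j ∈ indec P S := by
    by_contra h
    exact hj (cf_of_notMem hΔ h k)
  refine ⟨j, hjΔ, hji, (cf hΔ k i).toNat, (cf hΔ k j).toNat, ?_⟩
  have h1 : P.root k = cf hΔ k i • P.root i + cf hΔ k j • P.root j := by
    rw [hsumk]
    rw [Finset.sum_eq_add i j (Ne.symm hji) (fun l _ hl => by
      rw [huniq l hl.1 hl.2, zero_smul]) (by simp) (by simp)]
  rw [hγdef, h1]
  rw [← natCast_zsmul, ← natCast_zsmul, Int.toNat_of_nonneg (hposk i), Int.toNat_of_nonneg (hposk j)]

/-- Every indivisible root belongs to a system of simple roots. -/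
theorem exists_simpleSys_mem [Finite ι] {i : ι} (hα : IsIndiv P i) :
    ∃ Δ : Set ι, IsSimpleSys P Δ ∧ i ∈ Δ := by
  by_cases h : ∃ k, LinearIndependent ℤ ![P.root i, P.root k]
  · obtain ⟨k, hk⟩ := h
    obtain ⟨Δ, h1, h2, -⟩ := exists_simpleSys_pair hα hk
    exact ⟨Δ, h1, h2⟩
  · push Not at h
    have hM : IsAddTorsionFree M := torsionFree_left P
    refine ⟨{i}, ⟨?_, ?_⟩, rfl⟩
    · rw [linearIndepOn_singleton_iff]
      exact P.ne_zero i
    · intro k
      have hi : P.root i ∈ natSpan P {i} := root_mem_natSpan rfl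
      have hi2 : (2 : ℤ) • P.root i ∈ natSpan P {i} := by
        rw [two_smul]; exact add_mem hi hi
      rcases K221.Prop.prop_cases P (h k) with e | e | e | e | e | e
      · rw [e]; exact Or.inl hi
      · rw [e, neg_neg]; exact Or.inr hi
      · rw [e]; exact Or.inl hi2
      · rw [e, neg_neg]; exact Or.inr hi2
      · exact absurd e.symm (hα k)
      · exfalso
        apply hα (P.reflectionPerm k k)
        rw [root_neg, smul_neg, e]

/-- An indivisible root is an indivisible element of the root lattice. -/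
theorem isUnit_of_smul_eq [Finite ι] {i : ι} (hα : IsIndiv P i) {m : M}
    (hm : m ∈ Submodule.span ℤ (Set.range P.root)) {n : ℤ} (h : n • m = P.root i) :
    n = 1 ∨ n = -1 := by
  obtain ⟨Δ, hΔ, hi⟩ := exists_simpleSys_mem hα
  have h1 : n • (⟨m, hm⟩ : Submodule.span ℤ (Set.range P.root)) =
      ⟨P.root i, Submodule.subset_span ⟨i, rfl⟩⟩ := Subtype.ext (by simpa using h)
  have h2 := congrArg (co hΔ i) h1
  have h3 : co hΔ i ⟨P.root i, Submodule.subset_span ⟨i, rfl⟩⟩ = 1 := cf_self hΔ hi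
  rw [map_smul, h3, smul_eq_mul] at h2
  exact Int.eq_one_or_neg_one_of_mul_eq_one h2

end K220.LexOrd
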