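import Mathlib.LinearAlgebra.RootSystem.WeylGroup
import Mathlib.LinearAlgebra.RootSystem.Reduced
import Groth.Prelude.Def_W4sga3xxiRoot
import Groth.Agent.RootD.K219.Basic
import Groth.Agent.RootD.K220.Aut

/-!
`p`-morphisms of reduced root data: invariance of the exponents and the isomorphism of Weyl groups.
-/

set_option autoImplicit false

namespace K220.PMor

open RootPairing Set K219.Basic K220.Aut

variable {ι M N ι' M' N' : Type*} [AddCommGroup M] [AddCommGroup N] [AddCommGroup M']
  [AddCommGroup N'] {P : RootPairing ι ℤ M N} {P' : RootPairing ι' ℤ M' N'}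

/-- In a reduced datum two roots with proportional positive multiples agree. -/
theorem eq_of_smul_eq [P.IsReduced] {i j : ι} {a b : ℤ} (ha : 0 < a) (hb : 0 < b)
    (h : a • P.root i = b • P.root j) : i = j := by
  have hM : IsAddTorsionFree M := torsionFree_left P
  have hli : ¬ LinearIndependent ℤ ![P.root i, P.root j] := by
    intro hli
    rw [LinearIndependent.pair_iff] at hli
    have := (hli a (-b) (by rw [h]; module)).1
    omega
  rcases IsReduced.eq_or_eq_neg (P := P) i j hli with h' | h'
  · exact P.root.injective h'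
  · exfalso
    rw [h'] at h
    have h2 : (a + b) • P.root j = 0 := by linear_combination (norm := module) (-1 : ℤ) • h
    rcases smul_eq_zero.mp h2 with h3 | h3
    · omega
    · exact P.ne_zero j h3

section

variable (f : M' →ₗ[ℤ] M) (g : N →ₗ[ℤ] N')
    (hfg : ∀ (m' : M') (n : N), P.toLinearMap (f m') n = P'.toLinearMap m' (g n))
    (u : ι ≃ ι') (q : ι → ℕ)
    (hroot : ∀ i : ι, f (P'.root (u i)) = (q i : ℤ) • P.root i)
    (hcoroot : ∀ i : ι, g (P.coroot i) = (q i : ℤ) • P'.coroot (u i))

include hfg hroot hcoroot in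
/-- The basic identity `q(α) ⟨u β, (u α)^v⟩ = q(β) ⟨β, α^v⟩`. -/
theorem pairing_eq (i j : ι) :
    (q i : ℤ) * P'.pairing (u j) (u i) = q j * P.pairing j i := by
  have h := hfg (P'.root (u j)) (P.coroot i)
  rw [hroot, hcoroot, map_smul, map_smul, LinearMap.smul_apply] at h
  exact h.symm

include hfg hroot hcoroot in
theorem reflectionPerm_eq [P.IsReduced] (hqpos : ∀ i, 0 < q i) (i j : ι) :
    q (P.reflectionPerm i j) = q j ∧ u (P.reflectionPerm i j) = P'.reflectionPerm (u i) (u j) := by
  have hM : IsAddTorsionFree M := torsionFree_left P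
  obtain ⟨k, hk⟩ := u.surjective (P'.reflectionPerm (u i) (u j))
  have h1 : (q k : ℤ) • P.root k = (q j : ℤ) • P.root (P.reflectionPerm i j) := by
    rw [← hroot k, hk, P'.root_reflectionPerm, P.root_reflectionPerm, reflection_apply,
      reflection_apply, map_sub, map_smul, hroot, hroot, root_coroot'_eq_pairing,
      root_coroot'_eq_pairing, smul_sub, smul_smul, smul_smul, mul_comm (P'.pairing (u j) (u i)),
      pairing_eq f g hfg u q hroot hcoroot]
  have h2 := eq_of_smul_eq (P := P) (by exact_mod_cast hqpos k) (by exact_mod_cast hqpos j) h1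
  subst h2
  refine ⟨?_, hk⟩
  have h3 : (q (P.reflectionPerm i j) : ℤ) = q j := smul_left_injective ℤ (P.ne_zero _) h1
  exact_mod_cast h3

end

section Weyl

variable [Finite ι] [Finite ι']

theorem weylGroupToPerm_injective : Function.Injective P.weylGroupToPerm := by
  intro w v h
  apply Subtype.ext
  refine weyl_ext w.2 v.2 fun i => ?_
  exact Equiv.congr_fun h i

variable (u : ι ≃ ι')
  (hu : ∀ i j : ι, u (P.reflectionPerm i j) = P'.reflectionPerm (u i) (u j))

include hu in
theorem permCongr_reflectionPerm (i : ι) :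
    u.permCongrHom (P.reflectionPerm i) = P'.reflectionPerm (u i) := by
  ext j
  change u (P.reflectionPerm i (u.symm j)) = _
  rw [hu, Equiv.apply_symm_apply]

include hu in
theorem map_range_weylGroupToPerm :
    P.weylGroupToPerm.range.map (u.permCongrHom : (ι ≃ ι) →* (ι' ≃ ι')) =
      P'.weylGroupToPerm.range := by
  rw [range_weylGroupToPerm, range_weylGroupToPerm, MonoidHom.map_closure]
  congr 1
  ext x
  constructor
  · rintro ⟨_, ⟨i, rfl⟩, rfl⟩
    exact ⟨u i, (permCongr_reflectionPerm u hu i).symm⟩
  · rintro ⟨i', rfl⟩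
    obtain ⟨i, rfl⟩ := u.surjective i'
    exact ⟨_, ⟨i, rfl⟩, permCongr_reflectionPerm u hu i⟩

/-- The isomorphism of Weyl groups attached to a bijection of the roots compatible with the
reflections. -/
noncomputable def weylEquiv : P.weylGroup ≃* P'.weylGroup :=
  (MonoidHom.ofInjective (weylGroupToPerm_injective (P := P))).trans
    ((u.permCongrHom.subgroupMap P.weylGroupToPerm.range).trans
      ((MulEquiv.subgroupCongr (map_range_weylGroupToPerm u hu)).trans
        (MonoidHom.ofInjective (weylGroupToPerm_injective (P := P'))).symm))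

theorem weylGroupToPerm_weylEquiv (w : P.weylGroup) :
    P'.weylGroupToPerm (weylEquiv u hu w) = u.permCongrHom (P.weylGroupToPerm w) := by
  have h := (MonoidHom.ofInjective (weylGroupToPerm_injective (P := P'))).apply_symm_apply
    ((MulEquiv.subgroupCongr (map_range_weylGroupToPerm u hu))
      ((u.permCongrHom.subgroupMap P.weylGroupToPerm.range)
        ((MonoidHom.ofInjective (weylGroupToPerm_injective (P := P))) w)))
  exact congrArg Subtype.val h

theorem weylEquiv_smul (w : P.weylGroup) (i : ι) :
    u ((w : P.Aut) • i) = ((weylEquiv u hu w : P'.weylGroup) : P'.Aut) • u i := by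
  have h := Equiv.congr_fun (weylGroupToPerm_weylEquiv u hu w) (u i)
  have h2 : u.permCongrHom (P.weylGroupToPerm w) (u i) = u ((w : P.Aut) • i) := by
    change u (P.weylGroupToPerm w (u.symm (u i))) = _
    rw [Equiv.symm_apply_apply]
    rfl
  rw [h2] at h
  exact h.symm

theorem weylEquiv_ofIdx (i : ι) :
    weylEquiv u hu (RootPairing.weylGroup.ofIdx P i) = RootPairing.weylGroup.ofIdx P' (u i) := by
  apply weylGroupToPerm_injective (P := P')
  rw [weylGroupToPerm_weylEquiv]
  exact permCongr_reflectionPerm u hu i

end Weyl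

end K220.PMor
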