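import Mathlib.LinearAlgebra.RootSystem.WeylGroup
import Mathlib.LinearAlgebra.RootSystem.Finite.Nondegenerate
import Mathlib.LinearAlgebra.RootSystem.Finite.Lemmas
import Mathlib.LinearAlgebra.FreeModule.Finite.Basic
import Mathlib.LinearAlgebra.FreeModule.Finite.Matrix
import Mathlib.LinearAlgebra.FreeModule.PID
import Mathlib.LinearAlgebra.Dimension.RankNullity
import Mathlib.LinearAlgebra.Dimension.Localization
import Mathlib.GroupTheory.FiniteAbelian.Basic
import Groth.Prelude.Def_W4sga3xxiRoot
import Groth.Agent.RootD.K219.Basic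
import Groth.Agent.RootD.K220.Aut

/-!
Ranks of the radical and of the coradical; morphisms of semisimple root data.
-/

set_option autoImplicit false

namespace K220.Rank

open RootPairing Set K219.Basic K220.Aut Module

variable {ι M N : Type*} [AddCommGroup M] [AddCommGroup N] (P : RootPairing ι ℤ M N)

/-- The weights killed by all coroots. -/
abbrev corad : Submodule ℤ M := ⨅ i : ι, LinearMap.ker (P.coroot' i)

theorem mem_corad {x : M} : x ∈ corad P ↔ ∀ i, P.coroot' i x = 0 := by
  simp [corad]

theorem disjoint_corad [Finite ι] :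
    Disjoint (Submodule.span ℤ (Set.range P.root)) (corad P) := by
  rw [Submodule.disjoint_def]
  intro x hx hx'
  exact eq_zero_of_coroot' hx ((mem_corad P).mp hx')

theorem finrank_corad_add [Finite ι] [Module.Finite ℤ M] [Module.Finite ℤ N] :
    finrank ℤ (corad P) + finrank ℤ (Submodule.span ℤ (Set.range P.root)) = finrank ℤ M := by
  have := Fintype.ofFinite ι
  have hM : IsReflexive ℤ M := .of_isPerfPair P.toLinearMap
  have hN : IsReflexive ℤ N := .of_isPerfPair P.toLinearMap.flip
  have h1 := Submodule.finrank_quotient_add_finrank (corad P)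
  have h2 : finrank ℤ (Submodule.span ℤ (Set.range P.root)) ≤ finrank ℤ (M ⧸ corad P) := by
    refine LinearMap.finrank_le_finrank_of_injective
      (f := (corad P).mkQ ∘ₗ (Submodule.span ℤ (Set.range P.root)).subtype) ?_
    rw [← LinearMap.ker_eq_bot, LinearMap.ker_eq_bot']
    intro x hx
    have hx' : (x : M) ∈ corad P := by
      have : (corad P).mkQ (x : M) = 0 := hx
      rwa [Submodule.mkQ_apply, Submodule.Quotient.mk_eq_zero] at this
    exact Subtype.ext ((Submodule.disjoint_def.mp (disjoint_corad P)) _ x.2 hx')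
  have h3 : finrank ℤ (M ⧸ corad P) ≤ finrank ℤ (P.corootSpan ℤ) := by
    let φ : M →ₗ[ℤ] Dual ℤ (P.corootSpan ℤ) := (P.corootSpan ℤ).subtype.dualMap ∘ₗ P.toLinearMap
    have hφ : LinearMap.ker φ = corad P := by
      ext x
      rw [LinearMap.mem_ker, mem_corad]
      constructor
      · intro h i
        have := LinearMap.congr_fun h ⟨P.coroot i, Submodule.subset_span ⟨i, rfl⟩⟩
        exact this
      · intro h
        ext ⟨y, hy⟩
        change P.toLinearMap x y = 0
        induction hy using Submodule.span_induction with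
        | mem y hy => obtain ⟨i, rfl⟩ := hy; exact h i
        | zero => rw [map_zero]
        | add a b _ _ ha hb => rw [map_add, ha, hb, add_zero]
        | smul c a _ ha => rw [map_smul, ha, smul_zero]
    rw [← hφ, ← Module.finrank_linearMap_self ℤ ℤ (P.corootSpan ℤ)]
    exact LinearMap.finrank_le_finrank_of_injective
      (f := (LinearMap.ker φ).liftQ φ le_rfl) (by
        rw [← LinearMap.ker_eq_bot]
        exact Submodule.ker_liftQ_eq_bot _ _ _ le_rfl)
  have h4 : finrank ℤ (P.corootSpan ℤ) = finrank ℤ (Submodule.span ℤ (Set.range P.root)) :=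
    P.finrank_corootSpan_eq'
  omega

include P in
theorem finrank_eq_zero_iff {V : Submodule ℤ M} [Module.Finite ℤ M] : finrank ℤ V = 0 ↔ V = ⊥ := by
  have hM : IsReflexive ℤ M := .of_isPerfPair P.toLinearMap
  rw [Submodule.finrank_eq_zero]

include P in
theorem finrank_eq [Module.Finite ℤ N] : finrank ℤ M = finrank ℤ N := by
  have hN : IsReflexive ℤ N := .of_isPerfPair P.toLinearMap.flip
  rw [LinearEquiv.finrank_eq P.toPerfPair]
  exact Module.finrank_linearMap_self ℤ ℤ N

theorem finrank_all [Finite ι] [Module.Finite ℤ M] [Module.Finite ℤ N] :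
    (Module.finrank ℤ (⨅ i : ι, LinearMap.ker (P.coroot' i) : Submodule ℤ M) +
        Module.finrank ℤ (Submodule.span ℤ (Set.range P.root)) = Module.finrank ℤ M) ∧
      (Module.finrank ℤ (⨅ i : ι, LinearMap.ker (P.root' i) : Submodule ℤ N) +
        Module.finrank ℤ (Submodule.span ℤ (Set.range P.root)) = Module.finrank ℤ M) ∧
      (Module.finrank ℤ (Submodule.span ℤ (Set.range P.root)) = Module.finrank ℤ M ↔
        (⨅ i : ι, LinearMap.ker (P.coroot' i) : Submodule ℤ M) = ⊥) ∧
      (Module.finrank ℤ (Submodule.span ℤ (Set.range P.root)) = Module.finrank ℤ M ↔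
        (⨅ i : ι, LinearMap.ker (P.root' i) : Submodule ℤ N) = ⊥) := by
  have := Fintype.ofFinite ι
  have h1 := finrank_corad_add P
  have h2 : finrank ℤ (⨅ i : ι, LinearMap.ker (P.root' i) : Submodule ℤ N) +
      finrank ℤ (P.corootSpan ℤ) = finrank ℤ N := finrank_corad_add P.flip
  have h3 : finrank ℤ (P.corootSpan ℤ) = finrank ℤ (Submodule.span ℤ (Set.range P.root)) :=
    P.finrank_corootSpan_eq'
  have h4 : finrank ℤ M = finrank ℤ N := finrank_eq P
  have h5 : finrank ℤ (⨅ i : ι, LinearMap.ker (P.root' i) : Submodule ℤ N) = 0 ↔ _ :=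
    finrank_eq_zero_iff P.flip
  have h6 : finrank ℤ (⨅ i : ι, LinearMap.ker (P.coroot' i) : Submodule ℤ M) = 0 ↔ _ :=
    finrank_eq_zero_iff P
  rw [h3] at h2
  refine ⟨h1, by omega, ?_, ?_⟩
  · rw [← h6]; change finrank ℤ (corad P) + _ = _ at h1; unfold corad at h1; omega
  · rw [← h5]; omega

/-- The index of a sublattice of full rank is finite. -/
theorem finite_quotient_of_finrank_eq [Module.Finite ℤ M] (V : Submodule ℤ M)
    (h : finrank ℤ V = finrank ℤ M) : Finite (M ⧸ V) := by
  have h1 := Submodule.finrank_quotient_add_finrank V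
  have h2 : finrank ℤ (M ⧸ V) = 0 := by omega
  rw [Module.finrank_eq_zero_iff] at h2
  have : Module.Finite ℤ (M ⧸ V) := inferInstance
  refine Module.finite_of_fg_torsion (M ⧸ V) ?_
  intro x
  obtain ⟨a, ha, hx⟩ := h2 x
  exact ⟨⟨a, mem_nonZeroDivisors_of_ne_zero ha⟩, hx⟩

/-- In a semisimple root datum a weight killed by all coroots vanishes. -/
theorem eq_zero_of_semisimple [Finite ι] [Module.Finite ℤ M] [Module.Finite ℤ N]
    (hss : finrank ℤ (Submodule.span ℤ (Set.range P.root)) = finrank ℤ M) {x : M}
    (hx : ∀ i, P.coroot' i x = 0) : x = 0 := by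
  have h := (finrank_all P).2.2.1.mp hss
  have : x ∈ (⨅ i : ι, LinearMap.ker (P.coroot' i) : Submodule ℤ M) := (mem_corad P).mpr hx
  rw [h] at this
  exact this

theorem hom_isogeny [Finite ι] {ι' M' N' : Type*} [AddCommGroup M'] [AddCommGroup N']
    (P' : RootPairing ι' ℤ M' N') [Finite ι']
    [Module.Finite ℤ M] [Module.Finite ℤ N] [Module.Finite ℤ M'] [Module.Finite ℤ N']
    (hss : Module.finrank ℤ (Submodule.span ℤ (Set.range P.root)) = Module.finrank ℤ M)
    (hss' : Module.finrank ℤ (Submodule.span ℤ (Set.range P'.root)) = Module.finrank ℤ M')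
    (f : RootPairing.Hom P' P) :
    Function.Injective f.weightMap ∧ Finite (M ⧸ LinearMap.range f.weightMap) := by
  constructor
  · rw [← LinearMap.ker_eq_bot, LinearMap.ker_eq_bot']
    intro x hx
    refine eq_zero_of_semisimple P' hss' fun i' => ?_
    have h1 := LinearMap.congr_fun
      (Hom.weight_coweight_transpose_apply P' P (P.coroot (f.indexEquiv i')) f) x
    have h2 := Hom.coroot_coweightMap_apply P' P (f.indexEquiv i') f
    rw [Equiv.symm_apply_apply] at h2
    rw [h2] at h1
    have h3 : P.coroot' (f.indexEquiv i') (f.weightMap x) = P'.coroot' i' x := h1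
    rw [← h3, hx, map_zero]
  · have hfin := finite_quotient_of_finrank_eq (Submodule.span ℤ (Set.range P.root)) hss
    have hle : Submodule.span ℤ (Set.range P.root) ≤ LinearMap.range f.weightMap := by
      rw [Submodule.span_le]
      rintro _ ⟨i, rfl⟩
      refine ⟨P'.root (f.indexEquiv.symm i), ?_⟩
      rw [Hom.root_weightMap_apply, Equiv.apply_symm_apply]
    exact Finite.of_surjective _ (Submodule.factor_surjective hle)

end K220.Rank
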